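import Cfsg.Agent.Lib.Components.UnitarySix.Monomial

/-!
An elementary abelian subgroup of order 243 of the six-dimensional unitary group over four elements is
conjugate to the diagonal group.
-/

set_option autoImplicit false

namespace Cfsg.Agent.Components.UnitarySix

open Cfsg.Agent.InvChar.Coset Matrix
open Cfsg.Agent.Classical.Unitary (mat suMk)

theorem eigen_of_cube (g : S) (hg : g * g * g = 1) (v : V) :
    ∃ a b c : V, a + b + c = v ∧ g • a = (1 : FF) • a ∧ g • b = FF.w • b ∧ g • c = FF.w2 • c ∧
      a = v + g • v + g • g • v ∧ b = v + FF.w2 • g • v + FF.w • g • g • v ∧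
      c = v + FF.w • g • v + FF.w2 • g • g • v := by
  have h3 : g • g • g • v = v := by rw [smul_smul, smul_smul, hg, one_smul]
  have hadd : ∀ x y : V, g • (x + y) = g • x + g • y := fun x y => by
    rw [smul_def, smul_def, smul_def, Matrix.mulVec_add]
  have hsm : ∀ (t : FF) (x : V), g • t • x = t • g • x := fun t x => smul_comm g t x
  refine ⟨_, _, _, ?_, ?_, ?_, ?_, rfl, rfl, rfl⟩
  · funext i
    simp only [Pi.add_apply, Pi.smul_apply, smul_eq_mul]
    generalize v i = a, (g • v) i = b, (g • g • v) i = c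
    revert a b c
    decide
  all_goals
    rw [hadd, hadd]
    try rw [hsm, hsm]
    rw [h3]
    funext i
    simp only [Pi.add_apply, Pi.smul_apply, smul_eq_mul]
    generalize v i = a, (g • v) i = b, (g • g • v) i = c
    revert a b c
    decide

/-- The common eigenvectors. -/
def Eig (s : Finset S) : Set V := {v | ∀ g ∈ s, ∃ c : FF, g • v = c • v}

theorem span_eig {P : Subgroup S} (hcomm : ∀ a ∈ P, ∀ b ∈ P, a * b = b * a)
    (hcube : ∀ a ∈ P, a * a * a = 1) (s : Finset S) (hs : ∀ g ∈ s, g ∈ P) :
    Submodule.span FF (Eig s) = ⊤ := by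
  classical
  induction s using Finset.induction with
  | empty =>
    rw [show Eig ∅ = Set.univ from Set.eq_univ_of_forall fun v g hg => absurd hg (by simp), Submodule.span_univ]
  | insert g t hgt ih =>
    rw [eq_top_iff, ← ih fun k hk => hs k (Finset.mem_insert_of_mem hk), Submodule.span_le]
    intro v hv
    have hg := hs g (Finset.mem_insert_self g t)
    obtain ⟨a, b, c, habc, ha, hb, hc, ea, eb, ec⟩ := eigen_of_cube g (hcube g hg) v
    have key : ∀ k ∈ t, ∀ l : FF, k • v = l • v → k • (g • v) = l • (g • v) ∧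
        k • (g • g • v) = l • (g • g • v) := fun k hk l hl => by
      have h1 := hcomm k (hs k (Finset.mem_insert_of_mem hk)) g hg
      have e1 : k • (g • v) = l • (g • v) := by rw [smul_smul, h1, ← smul_smul, hl, smul_comm]
      refine ⟨e1, ?_⟩
      rw [smul_smul, h1, ← smul_smul, e1, smul_comm]
    have hmem : ∀ (x : V) (t1 t2 : FF) (e : FF), x = v + t1 • g • v + t2 • g • g • v → g • x = e • x →
        x ∈ Submodule.span FF (Eig (insert g t)) := by
      intro x t1 t2 e hx hex
      refine Submodule.subset_span fun k hk => ?_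
      rcases Finset.mem_insert.1 hk with rfl | hk
      · exact ⟨e, hex⟩
      · obtain ⟨l, hl⟩ := hv k hk
        obtain ⟨h1, h2⟩ := key k hk l hl
        refine ⟨l, ?_⟩
        rw [hx, smul_def, Matrix.mulVec_add, Matrix.mulVec_add, Matrix.mulVec_smul, Matrix.mulVec_smul,
          ← smul_def, ← smul_def, ← smul_def, hl, h1, h2, smul_add, smul_add, smul_comm l t1, smul_comm l t2]
    rw [← habc]
    exact add_mem (add_mem (hmem a 1 1 _ (by rw [ea, one_smul, one_smul]) ha) (hmem b _ _ _ eb hb))
      (hmem c _ _ _ ec hc)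

theorem mul_sq_eq_one {a b : FF} (h : a * b ^ 2 = 1) : a = b := by
  revert h; revert a b; decide

theorem exists_diag {P : Subgroup S} (hcomm : ∀ a ∈ P, ∀ b ∈ P, a * b = b * a)
    (hcube : ∀ a ∈ P, a * a * a = 1) (hcard : Nat.card P = 243) :
    ∃ U : S, P.map (MulAut.conj U).toMonoidHom = D := by
  classical
  haveI : Fintype S := Fintype.ofFinite S
  let s : Finset S := Finset.univ.filter fun g => g ∈ P
  obtain ⟨b, hbE, hbspan, hbli⟩ := exists_linearIndependent FF (Eig s)
  rw [span_eig hcomm hcube s fun g hg => (Finset.mem_filter.1 hg).2] at hbspan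
  have B : Module.Basis b FF V := Module.Basis.mk hbli (by rw [Subtype.range_coe, hbspan])
  haveI : Fintype b := Fintype.ofFinite b
  have hb6 : Fintype.card b = 6 := by
    rw [← Module.finrank_eq_card_basis B, Module.finrank_fin_fun]
  let ι : Fin 6 ≃ b := (Fintype.equivFinOfCardEq hb6).symm
  let v : Fin 6 → V := fun k => (ι k).1
  have hli : LinearIndependent FF v := hbli.comp ι ι.injective
  have heig : ∀ (p : P) (k : Fin 6), ∃ c : FF, p.1 • v k = c • v k := fun p k =>
    hbE (ι k).2 p.1 (Finset.mem_filter.2 ⟨Finset.mem_univ _, p.2⟩)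
  choose χ hχ using heig
  let Q : Matrix (Fin 6) (Fin 6) FF := Matrix.of fun i k => v k i
  have hQ : IsUnit Q := (Matrix.linearIndependent_cols_iff_isUnit (A := Q)).1 hli
  have hdet : Q.det ≠ 0 := IsUnit.ne_zero ((Matrix.isUnit_iff_isUnit_det Q).1 hQ)
  have hmul : ∀ p : P, mat p.1 * Q = Q * Matrix.diagonal (χ p) := fun p => by
    ext i k
    rw [Matrix.mul_diagonal]
    show (mat p.1 *ᵥ v k) i = v k i * χ p k
    rw [← smul_def, hχ, Pi.smul_apply, smul_eq_mul, mul_comm]
  have hprod : ∀ p : P, ∏ k, χ p k = 1 := fun p => by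
    have := congrArg Matrix.det (hmul p)
    rw [Matrix.det_mul, Matrix.det_mul, Matrix.det_diagonal,
      show (mat p.1).det = 1 from (p.1 : Matrix.SpecialLinearGroup (Fin 6) FF).2, one_mul] at this
    exact (mul_left_cancel₀ hdet (by rw [mul_one]; exact this)).symm
  let f : P → Dset := fun p => ⟨χ p, hprod p⟩
  have hf : Function.Injective f := fun p q hpq => by
    have h1 : mat p.1 * Q = mat q.1 * Q := by
      rw [hmul, hmul, show χ p = χ q from congrArg Subtype.val hpq]
    have h2 := hQ.mul_right_cancel h1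
    exact Subtype.ext (S_ext fun x => by rw [smul_def, smul_def, h2])
  haveI : Finite Dset := Subtype.finite
  have hbij : Function.Bijective f := hf.bijective_of_nat_card_le (by rw [hcard, card_Dset])
  have horth : ∀ i k, i ≠ k → H (v i) (v k) = 0 := fun i k hik => by
    obtain ⟨d, hd⟩ := exists_Dset i k hik
    obtain ⟨p, hp⟩ := hbij.2 d
    have hpi : ∀ t, χ p t = d.1 t := fun t => congrFun (congrArg Subtype.val hp) t
    have := H_smul p.1 (v i) (v k)
    rw [hχ, hχ, hpi, hpi, show H (d.1 i • v i) (d.1 k • v k) = d.1 i * ((d.1 k) ^ 2 * H (v i) (v k)) by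
      rw [show H (d.1 i • v i) (d.1 k • v k) = d.1 i * H (v i) (d.1 k • v k) from
        Cfsg.Agent.Classical.Unitary.H_smul_left _ _ _,
        show H (v i) (d.1 k • v k) = (d.1 k) ^ 2 * H (v i) (v k) from
        Cfsg.Agent.Classical.Unitary.H_smul_right _ _ _], ← mul_assoc] at this
    by_contra hne
    exact hd (mul_sq_eq_one (mul_right_cancel₀ hne (by rw [one_mul]; exact this)))
  have hnorm : ∀ k, H (v k) (v k) = 1 := fun k => by
    have hne : H (v k) (v k) ≠ 0 := fun h0 => by
      refine hli.ne_zero k (Cfsg.Agent.Classical.Unitary.eq_zero_of_H (q := 2) hF fun y => ?_)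
      have hy : y ∈ Submodule.span FF (Set.range v) := by
        rw [show Set.range v = b by
          rw [show v = Subtype.val ∘ ι from rfl, ι.surjective.range_comp, Subtype.range_coe], hbspan]
        trivial
      induction hy using Submodule.span_induction with
      | mem x hx =>
        obtain ⟨i, rfl⟩ := hx
        by_cases hi : k = i
        · rw [← hi]; exact h0
        · exact horth k i hi
      | zero => exact Cfsg.Agent.Classical.Unitary.H_zero_right hF _
      | add x z _ _ hx hz => rw [Cfsg.Agent.Classical.Unitary.H_add_right hF, hx, hz, add_zero]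
      | smul a x _ hx => rw [Cfsg.Agent.Classical.Unitary.H_smul_right, hx, mul_zero]
    have hor : ∀ n : ℕ, ((n : FF) = 0 ∨ (n : FF) = 1) := fun n => by
      induction n with
      | zero => simp
      | succ m ih => rcases ih with h | h <;> simp [h]; decide
    rw [H_self] at hne ⊢
    exact (hor _).resolve_left hne
  have hQH : ∀ x y : V, Cfsg.hermForm 6 FF 2 (Q *ᵥ x) (Q *ᵥ y) = Cfsg.hermForm 6 FF 2 x y := by
    refine (Cfsg.Agent.Classical.Unitary.preserves_iff hF Q).2 ?_
    ext i k
    rw [Matrix.mul_apply, Matrix.one_apply]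
    have : (∑ j, Qᵀ i j * (Q.map (Cfsg.Agent.Forms.HermStd.qHom hF)) j k) = H (v i) (v k) := by
      refine Finset.sum_congr rfl fun j _ => ?_
      simp [Q, Cfsg.Agent.Forms.HermStd.qHom_apply]
    rw [this]
    by_cases hik : i = k
    · rw [if_pos hik, hik, hnorm]
    · rw [if_neg hik, horth i k hik]
  let s0 : V := Function.update 1 0 Q.det⁻¹
  have hs0 : ∀ i, s0 i ≠ 0 := fun i => by
    by_cases hi : i = 0 <;> simp [s0, hi, hdet]
  let U : S := suMk (Q * Matrix.diagonal s0)
    (by rw [Matrix.det_mul, Matrix.det_diagonal]; simp [s0, Finset.prod_update_of_mem, hdet])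
    (fun x y => by
      rw [← mulVec_mulVec, ← mulVec_mulVec, hQH]
      exact Cfsg.Agent.Classical.Unitary.diag_preserves hF s0
        (fun i => by rw [pow_succ', cube_eq_one (hs0 i)]) x y)
  refine ⟨U⁻¹, Subgroup.eq_of_le_of_card_ge ?_ ?_⟩
  · rintro _ ⟨p, hp, rfl⟩
    have hk : p * U = U * diagS (f ⟨p, hp⟩) := S_ext fun x => by
      rw [mul_smul, mul_smul, smul_def p, smul_def U x, Cfsg.Agent.Classical.Unitary.suMk_mulVec, mulVec_mulVec,
        ← Matrix.mul_assoc, hmul ⟨p, hp⟩, Matrix.mul_assoc, Matrix.diagonal_mul_diagonal,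
        smul_def U, Cfsg.Agent.Classical.Unitary.suMk_mulVec,
        show diagS (f ⟨p, hp⟩) • x = Matrix.diagonal (χ ⟨p, hp⟩) *ᵥ x from funext fun i => by
          rw [diagS_smul, Matrix.mulVec_diagonal],
        mulVec_mulVec, Matrix.mul_assoc, Matrix.diagonal_mul_diagonal]
      simp only [mul_comm]
    show U⁻¹ * p * U⁻¹⁻¹ ∈ D
    rw [inv_inv, mul_assoc, hk, inv_mul_cancel_left]
    exact diagS_mem _
  · rw [Subgroup.card_map_of_injective (MulEquiv.injective _), hcard, card_D]

end Cfsg.Agent.Components.UnitarySix
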