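import Cfsg.Agent.Lib.Components.UnitarySix.Model
import Cfsg.Agent.Lib.Components.UnitarySix.Eigen

/-!
Every triple cover of the four-dimensional unitary group over nine elements inside the six-dimensional
unitary group over four elements is conjugate to one containing the even monomial group.
-/

set_option autoImplicit false

namespace Cfsg.Agent.Components.UnitarySix

open Cfsg.Agent.InvChar.Coset
open scoped commutatorElement
open Cfsg.Agent.MonomialMult (Nine)
open Model (M ψ)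

local notation "Q" => Cfsg.PSU 4 Nine 3

/-- The image of the diagonal group in the projective group. -/
noncomputable def Dq : Subgroup Q := (D.subgroupOf M).map ψ

/-- The image of the even monomial group in the projective group. -/
noncomputable def Nq : Subgroup Q := (N0.subgroupOf M).map ψ

/-- An element of the group. -/
def toM (x : S) (h : x ∈ N0) : M := ⟨x, Model.N0_le h⟩

theorem ψ_mem_Dq {x : S} (h : x ∈ D) : ψ (toM x (D_le_N0 h)) ∈ Dq := ⟨_, h, rfl⟩

theorem ψ_mem_Nq {x : S} (h : x ∈ N0) : ψ (toM x h) ∈ Nq := ⟨_, h, rfl⟩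

theorem ker_le_D : ψ.ker ≤ D.subgroupOf M := by
  rw [Model.ker_ψ]
  exact fun k hk => center_le_D hk

theorem Dq_comap : Dq.comap ψ = D.subgroupOf M := Subgroup.comap_map_eq_self ker_le_D

theorem Nq_comap : Nq.comap ψ = N0.subgroupOf M :=
  Subgroup.comap_map_eq_self (ker_le_D.trans fun _ hk => Subgroup.mem_subgroupOf.2 (D_le_N0 hk))

theorem card_Dq : Nat.card Dq = 81 := by
  have := Model.card_image ker_le_D
  rw [Nat.card_congr (Subgroup.subgroupOfEquivOfLe (D_le_N0.trans Model.N0_le)).toEquiv, card_D] at this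
  rw [Dq]
  omega

theorem card_Nq : Nat.card Nq = 29160 := by
  have := Model.card_image (ker_le_D.trans fun _ hk => Subgroup.mem_subgroupOf.2 (D_le_N0 hk))
  rw [Nat.card_congr (Subgroup.subgroupOfEquivOfLe Model.N0_le).toEquiv, card_N0] at this
  rw [Nq]
  omega

theorem card_comap {A B : Type*} [Group A] [Group B] (f : A →* B) (hf : Function.Surjective f) (X : Subgroup B) :
    Nat.card (X.comap f) = Nat.card X * Nat.card f.ker := by
  have h := Subgroup.card_eq_card_quotient_mul_card_subgroup (f.comp (X.comap f).subtype).ker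
  rw [Nat.card_congr (QuotientGroup.quotientKerEquivRange (f.comp (X.comap f).subtype)).toEquiv,
    MonoidHom.range_comp, Subgroup.range_subtype, Subgroup.map_comap_eq_self_of_surjective hf,
    ← MonoidHom.comap_ker, ← Subgroup.subgroupOf,
    Nat.card_congr (Subgroup.subgroupOfEquivOfLe (Subgroup.ker_le_comap _ _)).toEquiv] at h
  exact h

theorem commutator_mul_central {A : Type*} [Group A] {x y z z' : A} (hz : z ∈ Subgroup.center A)
    (hz' : z' ∈ Subgroup.center A) : ⁅x * z, y * z'⁆ = ⁅x, y⁆ := by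
  rw [commutatorElement_def, commutatorElement_def]
  calc x * z * (y * z') * (x * z)⁻¹ * (y * z')⁻¹ = x * (z * (y * z') * z⁻¹) * x⁻¹ * (z'⁻¹ * y⁻¹) := by group
    _ = x * (y * z') * x⁻¹ * (z'⁻¹ * y⁻¹) := by
      rw [← Subgroup.mem_center_iff.1 hz (y * z'), mul_inv_cancel_right]
    _ = x * y * (z' * x⁻¹ * z'⁻¹) * y⁻¹ := by group
    _ = x * y * x⁻¹ * y⁻¹ := by rw [← Subgroup.mem_center_iff.1 hz' x⁻¹, mul_inv_cancel_right]

variable {K : Subgroup S} (θ : K →* Q) (hθ : Function.Surjective θ) (hker : θ.ker = Subgroup.center K)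
  (hZ : Nat.card (Subgroup.center K) = 3)

include hθ hker hZ

theorem card_K : Nat.card K = 9797760 := by
  have := card_comap θ hθ ⊤
  rwa [Subgroup.comap_top, Subgroup.card_top, Subgroup.card_top, card_psu, hker, hZ] at this

omit hθ hker in
theorem cube_center {z : K} (hz : z ∈ Subgroup.center K) : z * z * z = 1 := by
  have h := pow_card_eq_one' (x := (⟨z, hz⟩ : Subgroup.center K))
  rw [hZ, pow_succ, pow_two] at h
  exact congrArg Subtype.val h

omit hθ hZ in
theorem eq_mul_center {a b : K} (h : θ a = θ b) : ∃ z ∈ Subgroup.center K, a = b * z :=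
  ⟨b⁻¹ * a, by rw [← hker, MonoidHom.mem_ker, map_mul, map_inv, h, inv_mul_cancel],
    (mul_inv_cancel_left b a).symm⟩

omit hθ hker hZ in
theorem swap_pairs : ∀ a b : Fin 6, a ≠ 0 → b ≠ 0 → a ≠ b → ∃ c d : Fin 6, c ≠ d ∧
    ∀ i, (dk a).1 ((Equiv.swap a b * Equiv.swap c d).symm i) = (dk b).1 i ∧
      (dk b).1 ((Equiv.swap a b * Equiv.swap c d).symm i) = (dk a).1 i := by
  decide +kernel

theorem abelian_preimage : (∀ a ∈ Dq.comap θ, ∀ b ∈ Dq.comap θ, a * b = b * a) ∧
    ∀ a ∈ Dq.comap θ, a * a * a = 1 := by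
  have hlift : ∀ k, ∃ u : K, θ u = ψ (toM (diagS (dk k)) (D_le_N0 (diagS_mem _))) := fun k => hθ _
  choose u hu using hlift
  have conjlift : ∀ (σ : Equiv.Perm (Fin 6)) (hσ : Equiv.Perm.sign σ = 1) (s : K),
      θ s = ψ (toM (permS σ) (mkMon_mem_N0 hσ _)) → ∀ (a : Fin 6) (y : S) (hy : y ∈ N0),
      permS σ * diagS (dk a) * (permS σ)⁻¹ = y → θ (s * u a * s⁻¹) = ψ (toM y hy) := by
    intro σ hσ s hs a y hy he
    rw [map_mul, map_mul, map_inv, hs, hu, ← map_inv, ← map_mul, ← map_mul]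
    exact congrArg ψ (Subtype.ext he)
  have hpair : ∀ a b, a ≠ 0 → b ≠ 0 → u a * u b = u b * u a := by
    intro a b ha hb
    by_cases hab : a = b
    · rw [hab]
    obtain ⟨c, d, hcd, hc⟩ := swap_pairs a b ha hb hab
    have hσ : Equiv.Perm.sign (Equiv.swap a b * Equiv.swap c d) = 1 := by
      rw [map_mul, Equiv.Perm.sign_swap hab, Equiv.Perm.sign_swap hcd]; rfl
    obtain ⟨s, hs⟩ := hθ (ψ (toM (permS _) (mkMon_mem_N0 hσ _)))
    have h1 := conjlift _ hσ s hs a (diagS (dk b)) (D_le_N0 (diagS_mem _))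
      (by rw [diag_conj]; exact diagS_ext fun i => (hc i).1)
    have h2 := conjlift _ hσ s hs b (diagS (dk a)) (D_le_N0 (diagS_mem _))
      (by rw [diag_conj]; exact diagS_ext fun i => (hc i).2)
    rw [← hu] at h1 h2
    obtain ⟨z, hz, ez⟩ := eq_mul_center θ hker h1
    obtain ⟨z', hz', ez'⟩ := eq_mul_center θ hker h2
    have hcc : ⁅u a, u b⁆ ∈ Subgroup.center K := by
      rw [← hker, MonoidHom.mem_ker, map_commutatorElement, hu, hu, ← map_commutatorElement]
      have : ⁅toM (diagS (dk a)) (D_le_N0 (diagS_mem _)), toM (diagS (dk b)) (D_le_N0 (diagS_mem _))⁆ = 1 := by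
        refine Subtype.ext ?_
        show ⁅diagS (dk a), diagS (dk b)⁆ = 1
        rw [commutatorElement_eq_one_iff_mul_comm, diagS_mul, diagS_mul]
        exact diagS_ext fun i => mul_comm _ _
      rw [this, map_one]
    have e1 : ⁅u a, u b⁆ = ⁅u b, u a⁆ := by
      have hl : s * ⁅u a, u b⁆ * s⁻¹ = ⁅u a, u b⁆ := by
        rw [Subgroup.mem_center_iff.1 hcc s, mul_inv_cancel_right]
      have hr : s * ⁅u a, u b⁆ * s⁻¹ = ⁅s * u a * s⁻¹, s * u b * s⁻¹⁆ := by
        simp only [commutatorElement_def]; group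
      rw [← hl, hr, ez, ez', commutator_mul_central hz hz']
    have e2 : ⁅u a, u b⁆ * ⁅u a, u b⁆ = 1 := by
      nth_rewrite 2 [e1]
      rw [← commutatorElement_inv (u a) (u b), mul_inv_cancel]
    have e3 := cube_center hZ hcc
    rw [e2, one_mul] at e3
    exact commutatorElement_eq_one_iff_mul_comm.1 e3
  have hcube : ∀ a, a ≠ 0 → u a * u a * u a = 1 := by
    intro a ha
    obtain ⟨s, hs⟩ := hθ (ψ (toM (permS _) (mkMon_mem_N0 (sign_invPerm ha) _)))
    have h1 := conjlift _ (sign_invPerm ha) s hs a (diagS (dk a) * diagS (dk a))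
      (mul_mem (D_le_N0 (diagS_mem _)) (D_le_N0 (diagS_mem _))) (invPerm_conj ha)
    have h3 : u a * u a * u a ∈ Subgroup.center K := by
      rw [← hker, MonoidHom.mem_ker, map_mul, map_mul, hu, ← map_mul, ← map_mul, ← map_one ψ]
      exact congrArg ψ (Subtype.ext (diagS_cube _))
    have h2 : θ (s * u a * s⁻¹) = θ (u a * u a) := by
      rw [h1, map_mul, hu, ← map_mul]; rfl
    obtain ⟨z, hz, ez⟩ := eq_mul_center θ hker h2
    have hfix : s * (u a * u a * u a) * s⁻¹ = u a * u a * u a := by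
      rw [Subgroup.mem_center_iff.1 h3 s, mul_inv_cancel_right]
    have cz : Commute (u a * u a) z := Subgroup.mem_center_iff.1 hz _
    have hsq : (u a * u a * u a) * (u a * u a * u a) = u a * u a * u a := by
      calc (u a * u a * u a) * (u a * u a * u a) = (u a * u a) ^ 3 * (z * z * z) := by
            rw [cube_center hZ hz, mul_one]; simp [pow_succ, mul_assoc]
        _ = (u a * u a * z) ^ 3 := by rw [cz.mul_pow, pow_succ z, pow_two z]
        _ = (s * u a * s⁻¹) ^ 3 := by rw [ez]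
        _ = _ := by rw [conj_pow, ← hfix]; simp [pow_succ]
    exact mul_eq_left.1 hsq
  let L : Subgroup K := Subgroup.closure ((Subgroup.center K : Set K) ∪ u '' {k | k ≠ 0})
  have hLZ : θ.ker ≤ L := by
    rw [hker]; exact fun z hz => Subgroup.subset_closure (Or.inl hz)
  have hPL : Dq.comap θ ≤ L := by
    have hD : D ≤ ((L.map θ).comap ψ).map M.subtype := D_le_of fun k hk =>
      ⟨toM (diagS (dk k)) (D_le_N0 (diagS_mem _)),
        ⟨u k, Subgroup.subset_closure (Or.inr ⟨k, hk, rfl⟩), hu k⟩, rfl⟩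
    intro p hp
    obtain ⟨m, hm, hme⟩ := hp
    obtain ⟨m', hm', hme'⟩ := hD (hm : m.1 ∈ D)
    obtain rfl : m' = m := Subtype.ext hme'
    have : p ∈ (L.map θ).comap θ := by
      show θ p ∈ L.map θ
      rw [← hme]; exact hm'
    rwa [Subgroup.comap_map_eq_self hLZ] at this
  have hcomm : ∀ a ∈ L, ∀ b ∈ L, a * b = b * a := by
    have hgen : ∀ a ∈ (Subgroup.center K : Set K) ∪ u '' {k | k ≠ 0},
        ∀ b ∈ (Subgroup.center K : Set K) ∪ u '' {k | k ≠ 0}, a * b = b * a := by
      rintro a (ha | ⟨i, hi, rfl⟩) b (hb | ⟨j, hj, rfl⟩)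
      · exact (Subgroup.mem_center_iff.1 ha b).symm
      · exact (Subgroup.mem_center_iff.1 ha _).symm
      · exact Subgroup.mem_center_iff.1 hb _
      · exact hpair i j hi hj
    have h1 : L ≤ Subgroup.centralizer ((Subgroup.center K : Set K) ∪ u '' {k | k ≠ 0}) :=
      (Subgroup.closure_le _).2 fun a ha => Subgroup.mem_centralizer_iff.2 fun b hb => hgen b hb a ha
    have h2 : L ≤ Subgroup.centralizer (L : Set K) :=
      (Subgroup.closure_le _).2 fun b hb => Subgroup.mem_centralizer_iff.2 fun a ha =>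
        (Subgroup.mem_centralizer_iff.1 (h1 ha) b hb).symm
    exact fun a ha b hb => Subgroup.mem_centralizer_iff.1 (h2 hb) a ha
  have hcu : ∀ a ∈ L, a * a * a = 1 := by
    intro a ha
    induction ha using Subgroup.closure_induction with
    | mem x hx =>
      rcases hx with hx | ⟨k, hk, rfl⟩
      · exact cube_center hZ hx
      · exact hcube k hk
    | one => simp
    | mul x y hx hy ihx ihy =>
      have hxy : Commute x y := hcomm x hx y hy
      have := hxy.mul_pow 3
      simp only [pow_succ, pow_zero, one_mul] at this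
      rw [this, ihx, ihy, one_mul]
    | inv x hx ih =>
      rw [← _root_.mul_inv_rev, ← _root_.mul_inv_rev, ← mul_assoc, ih, inv_one]
  exact ⟨fun a ha b hb => hcomm a (hPL ha) b (hPL hb), fun a ha => hcu a (hPL ha)⟩

omit hθ hker hZ in
theorem permS_cube {σ : Equiv.Perm (Fin 6)} (h : σ.IsThreeCycle) :
    permS σ = (permS σ * permS σ) * (permS σ * permS σ) := by
  rw [← permS_mul, ← permS_mul]
  congr 1
  have := pow_orderOf_eq_one σ
  rw [h.orderOf, pow_succ, pow_two] at this
  rw [← mul_assoc, this, one_mul]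

theorem good_of (hP : (Dq.comap θ).map K.subtype = D) : Good K := by
  have hDK : ∀ x ∈ D, ∃ p : K, θ p ∈ Dq ∧ p.1 = x := fun x hx => by
    rw [← hP] at hx
    obtain ⟨p, hp, rfl⟩ := hx
    exact ⟨p, hp, rfl⟩
  have hDof : ∀ p : K, θ p ∈ Dq → p.1 ∈ D := fun p hp => hP.le ⟨p, hp, rfl⟩
  have hnorm : ∀ (n : M) (_ : n.1 ∈ Mon) (d : Q), d ∈ Dq → ψ n * d * (ψ n)⁻¹ ∈ Dq := by
    rintro n ⟨σ, c, hn⟩ _ ⟨m, ⟨e, he⟩, rfl⟩
    refine ⟨n * m * n⁻¹, ?_, by rw [map_mul, map_mul, map_inv]⟩
    refine ⟨fun i => c i * e (σ.symm i) * (c i)⁻¹, fun x => ?_⟩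
    show (n.1 * m.1 * n.1⁻¹) • x = _
    rw [mul_smul, mul_smul, hn, show m.1 • n.1⁻¹ • x = _ from he _, hn.inv]
    funext i
    simp [monV, Equiv.Perm.one_def, mul_assoc]
  let A : Subgroup S := (Nq.comap θ).map K.subtype
  have hAM : A ≤ Mon := by
    rintro _ ⟨a, ⟨n, hn, hne⟩, rfl⟩
    refine mem_Mon_of_normalises fun x hx => ?_
    obtain ⟨p, hp, rfl⟩ := hDK x hx
    refine hDof (a * p * a⁻¹) ?_
    rw [map_mul, map_mul, map_inv, ← hne]
    exact hnorm n (N0_le_Mon hn) _ hp
  have hAcard : Nat.card A = 87480 := by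
    rw [Subgroup.card_map_of_injective K.subtype_injective, card_comap θ hθ, card_Nq, hker, hZ]
  have hidx : (A.subgroupOf Mon).index = 2 := by
    have := Subgroup.card_mul_index (A.subgroupOf Mon)
    rw [Nat.card_congr (Subgroup.subgroupOfEquivOfLe hAM).toEquiv, hAcard, card_Mon] at this
    omega
  have hsq : ∀ x ∈ Mon, x * x ∈ A := fun x hx => by
    have := Subgroup.mul_self_mem_of_index_two hidx (⟨x, hx⟩ : Mon)
    exact this
  have hN : A = N0 := by
    refine (Subgroup.eq_of_le_of_card_ge ?_ (by rw [hAcard, card_N0])).symm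
    intro x hx
    obtain ⟨σ, d, hs, rfl⟩ := exists_eq_permS_mul hx
    refine mul_mem ?_ ?_
    · have := hsq (diagS d * diagS d) (mul_mem (D_le_Mon (diagS_mem d)) (D_le_Mon (diagS_mem d)))
      rwa [← mul_assoc, diagS_cube, one_mul] at this
    · have hle : alternatingGroup (Fin 6) ≤ A.comap permHom := by
        rw [← Equiv.Perm.closure_three_cycles_eq_alternating, Subgroup.closure_le]
        intro τ hτ
        show permS τ ∈ A
        rw [permS_cube hτ]
        exact hsq _ (mul_mem ⟨_, _, isMon_mkMon _ _⟩ ⟨_, _, isMon_mkMon _ _⟩)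
      exact hle (Equiv.Perm.mem_alternatingGroup.2 hs)
  have hle : N0 ≤ K := by
    rw [← hN]
    rintro _ ⟨a, -, rfl⟩
    exact a.2
  refine ⟨hle, ?_, card_K θ hθ hker hZ, perfect_of hle θ hθ hker⟩
  rintro x ⟨hxK, hx⟩
  rw [← hN]
  refine ⟨⟨x, hxK⟩, ?_, rfl⟩
  obtain ⟨m, hm⟩ := Model.ψ_surjective (θ ⟨x, hxK⟩)
  obtain ⟨σ, c, hc⟩ := hx
  have hmM : m.1 ∈ Mon := mem_Mon_of_normalises fun y hy => by
    have h1 : ψ (m * toM y (D_le_N0 hy) * m⁻¹) ∈ Dq := by
      obtain ⟨p, hpe⟩ := hθ (ψ (toM y (D_le_N0 hy)))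
      have h2 : p.1 ∈ D := hDof p (by rw [hpe]; exact ψ_mem_Dq hy)
      have h3 : x * p.1 * x⁻¹ ∈ D := by
        obtain ⟨e, he⟩ := h2
        refine ⟨fun i => c i * e (σ.symm i) * (c i)⁻¹, fun v => ?_⟩
        rw [mul_smul, mul_smul, hc, he, hc.inv]
        funext i
        simp [monV, Equiv.Perm.one_def, mul_assoc]
      obtain ⟨p', hp', hpe'⟩ := hDK _ h3
      have : p' = ⟨x, hxK⟩ * p * ⟨x, hxK⟩⁻¹ := Subtype.ext hpe'
      rw [map_mul, map_mul, map_inv, hm, ← hpe, ← map_inv, ← map_mul, ← map_mul, ← this]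
      exact hp'
    rw [← Subgroup.mem_comap, Dq_comap] at h1
    exact h1
  show θ ⟨x, hxK⟩ ∈ Nq
  rw [← hm]
  exact ⟨m, Model.M_inf_Mon ⟨m.2, hmM⟩, rfl⟩

/-- The classification up to conjugation into the standard position. -/
theorem exists_conj_good : ∃ g : S, Good (K.map (MulAut.conj g).toMonoidHom) := by
  obtain ⟨hcomm, hcube⟩ := abelian_preimage θ hθ hker hZ
  obtain ⟨U, hU⟩ := exists_diag (P := (Dq.comap θ).map K.subtype)
    (by rintro _ ⟨a, ha, rfl⟩ _ ⟨b, hb, rfl⟩; exact congrArg Subtype.val (hcomm a ha b hb))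
    (by rintro _ ⟨a, ha, rfl⟩; exact congrArg Subtype.val (hcube a ha))
    (by rw [Subgroup.card_map_of_injective K.subtype_injective, card_comap θ hθ, card_Dq, hker, hZ])
  let f : K ≃* K.map (MulAut.conj U).toMonoidHom :=
    K.equivMapOfInjective _ (MulEquiv.injective (MulAut.conj U))
  refine ⟨U, good_of (θ.comp f.symm.toMonoidHom) (hθ.comp f.symm.surjective) ?_ ?_ ?_⟩
  · ext k
    simp only [MonoidHom.mem_ker, MonoidHom.comp_apply, MulEquiv.coe_toMonoidHom, Subgroup.mem_center_iff]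
    rw [← MonoidHom.mem_ker, hker, Subgroup.mem_center_iff]
    exact ⟨fun h g => f.symm.injective (by rw [map_mul, map_mul]; exact h _),
      fun h g => by
        obtain ⟨g', rfl⟩ := f.symm.surjective g
        rw [← map_mul, ← map_mul, h g']⟩
  · rw [← hZ]
    refine Nat.card_congr (f.symm.toEquiv.subtypeEquiv fun k => ?_)
    simp only [MulEquiv.toEquiv_eq_coe, EquivLike.coe_coe, Subgroup.mem_center_iff]
    exact ⟨fun h g => by
        obtain ⟨g', rfl⟩ := f.symm.surjective g
        rw [← map_mul, ← map_mul, h g'],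
      fun h g => f.symm.injective (by rw [map_mul, map_mul]; exact h _)⟩
  · rw [← hU]
    ext x
    constructor
    · rintro ⟨k, hk, rfl⟩
      refine ⟨(f.symm k).1, ⟨f.symm k, hk, rfl⟩, ?_⟩
      show ((f (f.symm k)).1 : S) = _
      rw [f.apply_symm_apply]; rfl
    · rintro ⟨_, ⟨p, hp, rfl⟩, rfl⟩
      exact ⟨f p, by show θ (f.symm (f p)) ∈ Dq; rwa [f.symm_apply_apply], rfl⟩

end Cfsg.Agent.Components.UnitarySix
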