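import Cfsg.Agent.InvChar.Coset.FieldFour
import Cfsg.Agent.Lib.Classical.UnitaryBasic

/-!
The six-dimensional unitary group over four elements, its monomial subgroup and the sets of vectors of
weight two or of weight six with a given product.
-/

set_option autoImplicit false

namespace Cfsg.Agent.Components.UnitarySix

open Cfsg.Agent.InvChar.Coset Matrix
open Cfsg.Agent.Classical.Unitary (mat suMk suMk_mulVec SU_ext SU_H)

/-- Vectors. -/
abbrev V := Fin 6 → FF

/-- The group. -/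
abbrev S := ↥(Cfsg.SU 6 FF 2)

theorem hF : Fintype.card FF = 2 ^ 2 := rfl

theorem smul_def (g : S) (x : V) : g • x = mat g *ᵥ x := rfl

/-- The form. -/
abbrev H (x y : V) : FF := Cfsg.hermForm 6 FF 2 x y

theorem H_smul (g : S) (x y : V) : H (g • x) (g • y) = H x y := SU_H g x y

theorem S_ext {g k : S} (h : ∀ x : V, g • x = k • x) : g = k := SU_ext h

theorem cube_eq_one {a : FF} (h : a ≠ 0) : a * a ^ 2 = 1 := by
  revert h; revert a; decide

theorem cube_ite (a : FF) : a * a ^ 2 = if a ≠ 0 then 1 else 0 := by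
  revert a; decide

/-- The number of non-zero coordinates. -/
def wt (x : V) : ℕ := (Finset.univ.filter fun i => x i ≠ 0).card

theorem H_self (x : V) : H x x = (wt x : FF) := by
  simp only [Cfsg.hermForm, cube_ite, Finset.sum_boole, wt]

theorem wt_smul {c : FF} (hc : c ≠ 0) (x : V) : wt (c • x) = wt x := by
  simp [wt, hc]

/-- Weight two, or weight six with the product `j`. -/
def InO (j : FF) (x : V) : Prop := wt x = 2 ∨ ∏ i, x i = j

instance (j : FF) (x : V) : Decidable (InO j x) := inferInstanceAs (Decidable (_ ∨ _))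

/-- The stabiliser of a set of vectors. -/
def G (j : FF) : Subgroup S where
  carrier := {g | ∀ x, InO j (g • x) ↔ InO j x}
  mul_mem' {a b} ha hb x := by rw [mul_smul, ha, hb]
  one_mem' x := by rw [one_smul]
  inv_mem' {a} ha x := by rw [← ha, smul_inv_smul]

/-- A monomial transformation. -/
def monV (σ : Equiv.Perm (Fin 6)) (d : V) (x : V) : V := fun i => d i * x (σ.symm i)

theorem monV_monV (σ τ : Equiv.Perm (Fin 6)) (d e x : V) :
    monV σ d (monV τ e x) = monV (σ * τ) (fun i => d i * e (σ.symm i)) x := by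
  funext i
  simp only [monV, mul_assoc, Equiv.Perm.mul_def, Equiv.symm_trans_apply]

theorem monV_single (σ : Equiv.Perm (Fin 6)) (d : V) (k : Fin 6) :
    monV σ d (Pi.single k 1) = Pi.single (σ k) (d (σ k)) := by
  funext i
  by_cases h : i = σ k
  · subst h; simp [monV]
  · have : σ.symm i ≠ k := fun e => h (by rw [← e, Equiv.apply_symm_apply])
    simp [monV, h, this]

theorem wt_monV (σ : Equiv.Perm (Fin 6)) {d : V} (hd : ∀ i, d i ≠ 0) (x : V) :
    wt (monV σ d x) = wt x :=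
  Finset.card_bij' (fun i _ => σ.symm i) (fun i _ => σ i) (by simp [monV, hd]) (by simp [monV, hd])
    (by simp) (by simp)

theorem prod_monV (σ : Equiv.Perm (Fin 6)) (d x : V) :
    ∏ i, monV σ d x i = (∏ i, d i) * ∏ i, x i := by
  simp only [monV, Finset.prod_mul_distrib]
  rw [Equiv.prod_comp σ.symm x]

theorem ne_zero_of_prod {d : V} (hd : ∏ i, d i = 1) (i : Fin 6) : d i ≠ 0 := fun h =>
  zero_ne_one (α := FF) ((Finset.prod_eq_zero (Finset.mem_univ i) h).symm.trans hd)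

/-- The monomial matrix. -/
def monMat (σ : Equiv.Perm (Fin 6)) (d : V) : Matrix (Fin 6) (Fin 6) FF :=
  (Matrix.diagonal d).submatrix id σ

theorem monMat_mulVec (σ : Equiv.Perm (Fin 6)) (d x : V) : monMat σ d *ᵥ x = monV σ d x := by
  funext i
  rw [Matrix.mulVec, dotProduct, Finset.sum_eq_single (σ.symm i)]
  · simp [monMat, monV]
  · intro k _ hk
    have : i ≠ σ k := fun e => hk (by rw [e, Equiv.symm_apply_apply])
    simp [monMat, this]
  · simp

theorem det_monMat (σ : Equiv.Perm (Fin 6)) (d : V) : (monMat σ d).det = ∏ i, d i := by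
  rw [monMat, Matrix.det_permute', Matrix.det_diagonal]
  rcases Int.units_eq_one_or (Equiv.Perm.sign σ) with h | h <;> rw [h]
  · simp
  · have : (((-1 : ℤˣ) : ℤ) : FF) = 1 := by
      rw [Units.val_neg, Units.val_one, Int.cast_neg, Int.cast_one]
      decide
    rw [this, one_mul]

theorem monMat_preserves (σ : Equiv.Perm (Fin 6)) {d : V} (hd : ∀ i, d i ≠ 0) (x y : V) :
    Cfsg.hermForm 6 FF 2 (monMat σ d *ᵥ x) (monMat σ d *ᵥ y) = Cfsg.hermForm 6 FF 2 x y := by
  rw [monMat_mulVec, monMat_mulVec]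
  simp only [Cfsg.hermForm, monV]
  rw [← Equiv.sum_comp σ.symm fun i => x i * y i ^ 2]
  refine Finset.sum_congr rfl fun i _ => ?_
  linear_combination (x (σ.symm i) * y (σ.symm i) ^ 2) * cube_eq_one (hd i)

/-- Determinant one. -/
abbrev Dset := {d : V // ∏ i, d i = 1}

/-- The monomial element. -/
def mkMon (σ : Equiv.Perm (Fin 6)) (d : Dset) : S :=
  suMk (monMat σ d.1) ((det_monMat σ d.1).trans d.2) (monMat_preserves σ (ne_zero_of_prod d.2))

theorem mkMon_smul (σ : Equiv.Perm (Fin 6)) (d : Dset) (x : V) : mkMon σ d • x = monV σ d.1 x := by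
  rw [smul_def, mkMon, suMk_mulVec, monMat_mulVec]

/-- The element acts as a monomial transformation. -/
def IsMon (g : S) (σ : Equiv.Perm (Fin 6)) (d : V) : Prop := ∀ x : V, g • x = monV σ d x

theorem isMon_mkMon (σ : Equiv.Perm (Fin 6)) (d : Dset) : IsMon (mkMon σ d) σ d.1 := mkMon_smul σ d

theorem isMon_one : IsMon 1 1 1 := fun x => by
  funext i
  simp [monV, Equiv.Perm.one_def]

theorem IsMon.mul {g k : S} {σ τ : Equiv.Perm (Fin 6)} {d e : V} (hg : IsMon g σ d) (hk : IsMon k τ e) :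
    IsMon (g * k) (σ * τ) (fun i => d i * e (σ.symm i)) := fun x => by
  rw [mul_smul, hk, hg, monV_monV]

theorem IsMon.prod {g : S} {σ : Equiv.Perm (Fin 6)} {d : V} (hg : IsMon g σ d) : ∏ i, d i = 1 := by
  have h : mat g = monMat σ d :=
    Cfsg.Agent.Classical.Unitary.mat_ext fun x => by
      rw [monMat_mulVec]; exact hg x
  rw [← det_monMat σ d, ← h]
  exact (g : Matrix.SpecialLinearGroup (Fin 6) FF).2

theorem IsMon.ne_zero {g : S} {σ : Equiv.Perm (Fin 6)} {d : V} (hg : IsMon g σ d) (i : Fin 6) : d i ≠ 0 :=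
  ne_zero_of_prod hg.prod i

theorem IsMon.inv {g : S} {σ : Equiv.Perm (Fin 6)} {d : V} (hg : IsMon g σ d) :
    IsMon g⁻¹ σ.symm (fun i => (d (σ i))⁻¹) := fun x => by
  rw [inv_smul_eq_iff, hg]
  funext i
  simp [monV, hg.ne_zero i]

theorem IsMon.unique {g : S} {σ τ : Equiv.Perm (Fin 6)} {d e : V} (hg : IsMon g σ d) (hg' : IsMon g τ e) :
    σ = τ ∧ d = e := by
  have h : ∀ k, Pi.single (σ k) (d (σ k)) = (Pi.single (τ k) (e (τ k)) : V) := fun k => by
    rw [← monV_single, ← monV_single, ← hg, ← hg']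
  have hσ : σ = τ := Equiv.ext fun k => by
    by_contra hne
    have := congrFun (h k) (σ k)
    rw [Pi.single_eq_same, Pi.single_eq_of_ne hne] at this
    exact hg.ne_zero _ this
  subst hσ
  refine ⟨rfl, funext fun i => ?_⟩
  have := congrFun (h (σ.symm i)) i
  simpa using this

theorem IsMon.eq_mkMon {g : S} {σ : Equiv.Perm (Fin 6)} {d : V} (hg : IsMon g σ d) :
    g = mkMon σ ⟨d, hg.prod⟩ := S_ext fun x => by rw [hg, mkMon_smul]

/-- The monomial group. -/
def Mon : Subgroup S where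
  carrier := {g | ∃ σ d, IsMon g σ d}
  mul_mem' := fun ⟨_, _, hg⟩ ⟨_, _, hk⟩ => ⟨_, _, hg.mul hk⟩
  one_mem' := ⟨1, 1, isMon_one⟩
  inv_mem' := fun ⟨_, _, hg⟩ => ⟨_, _, hg.inv⟩

/-- The monomial group with even permutations. -/
def N0 : Subgroup S where
  carrier := {g | ∃ σ d, IsMon g σ d ∧ Equiv.Perm.sign σ = 1}
  mul_mem' := fun ⟨_, _, hg, h⟩ ⟨_, _, hk, h'⟩ => ⟨_, _, hg.mul hk, by rw [map_mul, h, h', one_mul]⟩
  one_mem' := ⟨1, 1, isMon_one, map_one _⟩
  inv_mem' := fun ⟨_, _, hg, h⟩ => ⟨_, _, hg.inv, by rw [Equiv.Perm.sign_symm, h]⟩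

/-- The diagonal group. -/
def D : Subgroup S where
  carrier := {g | ∃ d, IsMon g 1 d}
  mul_mem' := fun ⟨_, hg⟩ ⟨_, hk⟩ => ⟨_, by simpa using hg.mul hk⟩
  one_mem' := ⟨1, isMon_one⟩
  inv_mem' := fun ⟨_, hg⟩ => ⟨_, hg.inv⟩

theorem N0_le_Mon : N0 ≤ Mon := fun _ ⟨σ, d, h, _⟩ => ⟨σ, d, h⟩

theorem D_le_N0 : D ≤ N0 := fun _ ⟨d, h⟩ => ⟨1, d, h, map_one _⟩

theorem D_le_Mon : D ≤ Mon := D_le_N0.trans N0_le_Mon

theorem mkMon_mem_N0 {σ : Equiv.Perm (Fin 6)} (h : Equiv.Perm.sign σ = 1) (d : Dset) : mkMon σ d ∈ N0 :=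
  ⟨σ, d.1, isMon_mkMon σ d, h⟩

/-- The diagonal element. -/
def diagS (d : Dset) : S := mkMon 1 d

theorem diagS_mem (d : Dset) : diagS d ∈ D := ⟨d.1, isMon_mkMon 1 d⟩

theorem diagS_smul (d : Dset) (x : V) (i : Fin 6) : (diagS d • x) i = d.1 i * x i := by
  rw [diagS, mkMon_smul]; rfl

theorem Mon_le_G (j : FF) : Mon ≤ G j := by
  rintro g ⟨σ, d, hg⟩ x
  rw [InO, InO, hg, wt_monV σ hg.ne_zero, prod_monV, hg.prod, one_mul]

/-- The monomial group is the product. -/
noncomputable def monEquiv : Equiv.Perm (Fin 6) × Dset ≃ Mon :=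
  Equiv.ofBijective (fun p => ⟨mkMon p.1 p.2, p.1, p.2.1, isMon_mkMon _ _⟩) ⟨fun p q h => by
      obtain ⟨h1, h2⟩ := (isMon_mkMon p.1 p.2).unique
        (by rw [show mkMon p.1 p.2 = mkMon q.1 q.2 from congrArg Subtype.val h]; exact isMon_mkMon q.1 q.2)
      exact Prod.ext h1 (Subtype.ext h2), fun ⟨g, σ, d, hg⟩ => ⟨(σ, ⟨d, hg.prod⟩), Subtype.ext hg.eq_mkMon.symm⟩⟩

theorem card_Dset : Nat.card Dset = 243 := by
  rw [Nat.card_eq_fintype_card]
  decide +kernel

theorem card_Mon : Nat.card Mon = 174960 := by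
  rw [← Nat.card_congr monEquiv, Nat.card_prod, card_Dset, Nat.card_perm, Nat.card_fin]
  rfl

theorem card_N0 : Nat.card N0 = 87480 := by
  have e : alternatingGroup (Fin 6) × Dset ≃ N0 :=
    Equiv.ofBijective (fun p => ⟨mkMon p.1 p.2, mkMon_mem_N0 (Equiv.Perm.mem_alternatingGroup.1 p.1.2) p.2⟩)
      ⟨fun p q h => by
        obtain ⟨h1, h2⟩ := (isMon_mkMon p.1.1 p.2).unique
          (by rw [show mkMon p.1.1 p.2 = mkMon q.1.1 q.2 from congrArg Subtype.val h]
              exact isMon_mkMon q.1.1 q.2)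
        exact Prod.ext (Subtype.ext h1) (Subtype.ext h2),
      fun ⟨g, σ, d, hg, hs⟩ => ⟨(⟨σ, Equiv.Perm.mem_alternatingGroup.2 hs⟩, ⟨d, hg.prod⟩),
        Subtype.ext hg.eq_mkMon.symm⟩⟩
  rw [← Nat.card_congr e, Nat.card_prod, card_Dset, nat_card_alternatingGroup, Nat.card_fin]
  rfl

theorem card_D : Nat.card D = 243 := by
  have e : Dset ≃ D := Equiv.ofBijective (fun d => ⟨diagS d, diagS_mem d⟩)
    ⟨fun p q h => Subtype.ext ((isMon_mkMon 1 p).unique
      (by rw [show mkMon 1 p = mkMon 1 q from congrArg Subtype.val h]; exact isMon_mkMon 1 q)).2,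
    fun ⟨g, d, hg⟩ => ⟨⟨d, hg.prod⟩, Subtype.ext hg.eq_mkMon.symm⟩⟩
  rw [← Nat.card_congr e, card_Dset]

end Cfsg.Agent.Components.UnitarySix
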