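import Cfsg.Agent.Lib.Components.UnitarySix.Orbits
import Cfsg.Agent.Lib.Classical.UnitarySimple
import Cfsg.Agent.Lib.MonomialMult.NineField

/-!
Generators of the diagonal group, and perfectness of a covering of the four-dimensional unitary group
containing the even monomial group.
-/

set_option autoImplicit false

namespace Cfsg.Agent.Components.UnitarySix

open Cfsg.Agent.InvChar.Coset Matrix
open scoped commutatorElement
open Cfsg.Agent.MonomialMult (Nine)

theorem hF9 : Fintype.card Nine = 3 ^ 2 := Nine.card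

theorem card_psu : Nat.card (Cfsg.PSU 4 Nine 3) = 3265920 := by
  have h := Cfsg.Agent.Classical.Unitary.natCard_PSU_mul (n := 4) (q := 3) (F := Nine) hF9 (by norm_num)
  rw [Cfsg.Agent.Classical.Unitary.natCard_GU hF9, show Nat.gcd 4 (3 + 1) = 4 from rfl] at h
  simp [Finset.prod_range_succ, Nat.even_iff] at h
  omega

theorem psu_perfect : commutator (Cfsg.PSU 4 Nine 3) = ⊤ := by
  rw [← top_le_iff, ← MonoidHom.range_eq_top.2 (QuotientGroup.mk'_surjective _), MonoidHom.range_eq_map,
    ← Cfsg.Agent.Classical.Unitary.commutator_SU_eq_top (F := Nine) (q := 3) (n := 4) hF9 (by norm_num)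
      (by norm_num), commutator_def, Subgroup.map_commutator]
  exact Subgroup.commutator_mono le_top le_top

/-- The permutation element. -/
def permS (σ : Equiv.Perm (Fin 6)) : S := mkMon σ ⟨1, by simp⟩

theorem permS_smul (σ : Equiv.Perm (Fin 6)) (x : V) (i : Fin 6) : (permS σ • x) i = x (σ.symm i) := by
  rw [permS, mkMon_smul]; simp [monV]

theorem permS_mul (σ τ : Equiv.Perm (Fin 6)) : permS (σ * τ) = permS σ * permS τ := S_ext fun x => by
  funext i
  rw [mul_smul, permS_smul, permS_smul, permS_smul, Equiv.Perm.mul_def, Equiv.symm_trans_apply]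

/-- The permutation elements. -/
def permHom : Equiv.Perm (Fin 6) →* S := MonoidHom.mk' permS permS_mul

theorem diagS_mul (a b : Dset) : diagS a * diagS b = diagS ⟨a.1 * b.1, by
    simp [Finset.prod_mul_distrib, a.2, b.2]⟩ := S_ext fun x => by
  funext i
  rw [mul_smul, diagS_smul, diagS_smul, diagS_smul]
  simp [mul_assoc]

theorem diagS_ext {a b : Dset} (h : ∀ i, a.1 i = b.1 i) : diagS a = diagS b := by
  rw [show a = b from Subtype.ext (funext h)]

theorem diag_conj (σ : Equiv.Perm (Fin 6)) (a : Dset) :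
    permS σ * diagS a * (permS σ)⁻¹ =
      diagS ⟨fun i => a.1 (σ.symm i), (Equiv.prod_comp σ.symm a.1).trans a.2⟩ := by
  rw [mul_inv_eq_iff_eq_mul]
  refine S_ext fun x => funext fun i => ?_
  rw [mul_smul, mul_smul, permS_smul, diagS_smul, diagS_smul, permS_smul]

theorem exists_eq_permS_mul {g : S} (hg : g ∈ N0) :
    ∃ σ a, Equiv.Perm.sign σ = 1 ∧ g = diagS a * permS σ := by
  obtain ⟨σ, d, hd, hs⟩ := hg
  exact ⟨σ, ⟨d, hd.prod⟩, hs, S_ext fun x => funext fun i => by
    rw [hd, mul_smul, diagS_smul, permS_smul]; rfl⟩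

/-- The basic diagonal element with `w` at 0 and `w²` at `k`. -/
def dk (k : Fin 6) : Dset :=
  if h : k = 0 then ⟨1, by simp⟩ else
    ⟨Function.update (Function.update 1 0 .w) k .w2, by revert h; revert k; decide +kernel⟩

theorem dk_val : ∀ k i : Fin 6, k ≠ 0 → (dk k).1 i = if i = k then .w2 else if i = 0 then .w else 1 := by
  decide +kernel

theorem diagS_cube (a : Dset) : diagS a * diagS a * diagS a = 1 := S_ext fun x => funext fun i => by
  rw [mul_smul, mul_smul, diagS_smul, diagS_smul, diagS_smul, one_smul, ← mul_assoc, ← mul_assoc, mul_assoc (a.1 i),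
    show a.1 i * (a.1 i * a.1 i) = 1 from by linear_combination cube_eq_one (ne_zero_of_prod a.2 i), one_mul]

set_option maxRecDepth 100000 in
theorem D_le_of {L : Subgroup S} (h : ∀ k : Fin 6, k ≠ 0 → diagS (dk k) ∈ L) : D ≤ L := by
  have key : ∀ e : V, ∏ i, e i = 1 → ∃ n : Fin 5 → Fin 3, ∀ i, e i = ∏ k, ((dk k.succ).1 i) ^ (n k).1 := by
    intro e he
    refine ⟨fun k => if e k.succ = 1 then 0 else if e k.succ = .w2 then 1 else 2, ?_⟩
    revert he; revert e
    decide +kernel
  rintro g ⟨d, hd⟩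
  obtain ⟨n, hn⟩ := key d hd.prod
  let p : Fin 5 → S := fun k => diagS (dk k.succ) ^ (n k).1
  have hp : ∀ k (x : V) (i : Fin 6), (p k • x) i = (dk k.succ).1 i ^ (n k).1 * x i := by
    intro k x i
    simp only [p]
    induction (n k).1 generalizing x with
    | zero => simp
    | succ m ih => rw [pow_succ, mul_smul, ih, diagS_smul, pow_succ, mul_assoc]
  have : g = p 0 * p 1 * p 2 * p 3 * p 4 := S_ext fun x => funext fun i => by
    simp only [hd x, mul_smul, hp, monV, hn i, Fin.prod_univ_five, Equiv.Perm.one_def, Equiv.refl_symm,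
      Equiv.refl_apply, mul_assoc]
  rw [this]
  have hk : ∀ k, p k ∈ L := fun k => pow_mem (h _ (Fin.succ_ne_zero k)) _
  exact mul_mem (mul_mem (mul_mem (mul_mem (hk 0) (hk 1)) (hk 2)) (hk 3)) (hk 4)

/-- Two spare positions. -/
def spare (k : Fin 6) : Fin 6 × Fin 6 := if k.1 ≤ 3 then (4, 5) else (2, 3)

theorem spare_ok : ∀ k : Fin 6, k ≠ 0 → (spare k).1 ≠ (spare k).2 ∧ (spare k).1 ≠ k ∧ (spare k).2 ≠ k ∧
    (spare k).1 ≠ 0 ∧ (spare k).2 ≠ 0 ∧ (spare k).1 ≠ 1 ∧ (spare k).2 ≠ 1 := by decide

/-- An even permutation exchanging 0 and `k`. -/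
def invPerm (k : Fin 6) : Equiv.Perm (Fin 6) := Equiv.swap 0 k * Equiv.swap (spare k).1 (spare k).2

theorem sign_invPerm {k : Fin 6} (hk : k ≠ 0) : Equiv.Perm.sign (invPerm k) = 1 := by
  rw [invPerm, map_mul, Equiv.Perm.sign_swap (Ne.symm hk), Equiv.Perm.sign_swap (spare_ok k hk).1]
  rfl

theorem invPerm_conj {k : Fin 6} (hk : k ≠ 0) :
    permS (invPerm k) * diagS (dk k) * (permS (invPerm k))⁻¹ = diagS (dk k) * diagS (dk k) := by
  rw [diag_conj, diagS_mul]
  refine diagS_ext fun i => ?_
  revert hk; revert k i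
  decide +kernel

theorem center_le_commutator : Subgroup.center S ≤ ⁅N0, N0⁆ := by
  refine center_le_D.trans (D_le_of fun k hk => ?_)
  have : ⁅permS (invPerm k), diagS (dk k)⁆ = diagS (dk k) := by
    rw [commutatorElement_def, invPerm_conj hk, mul_inv_cancel_right]
  rw [← this]
  exact Subgroup.commutator_mem_commutator (mkMon_mem_N0 (sign_invPerm hk) _) (D_le_N0 (diagS_mem _))

theorem center_eq {K : Subgroup S} (hle : N0 ≤ K) :
    (Subgroup.center K).map K.subtype = Subgroup.center S := by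
  refine le_antisymm ?_ fun g hg => ?_
  · rintro _ ⟨g, hg, rfl⟩
    exact mem_center_of_comm fun k hk =>
      (congrArg Subtype.val (Subgroup.mem_center_iff.1 hg ⟨k, hle hk⟩)).symm
  · exact ⟨⟨g, hle (D_le_N0 (center_le_D hg))⟩,
      Subgroup.mem_center_iff.2 fun k => Subtype.ext (Subgroup.mem_center_iff.1 hg k.1), rfl⟩

theorem card_center_of_le {K : Subgroup S} (hle : N0 ≤ K) : Nat.card (Subgroup.center K) = 3 := by
  rw [← card_center_S, ← center_eq hle, Subgroup.card_map_of_injective K.subtype_injective]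

theorem perfect_of {K : Subgroup S} (hle : N0 ≤ K)
    (θ : K →* Cfsg.PSU 4 Nine 3) (hθ : Function.Surjective θ) (hker : θ.ker = Subgroup.center K) :
    ⁅K, K⁆ = K := by
  have h1 : (commutator K).map θ = ⊤ := by
    rw [commutator_def, Subgroup.map_commutator, Subgroup.map_top_of_surjective θ hθ, ← commutator_def,
      psu_perfect]
  have h2 : commutator K = ⊤ := by
    rw [eq_top_iff]
    intro k _
    obtain ⟨c, hc, he⟩ : θ k ∈ (commutator K).map θ := h1 ▸ trivial
    have hz : c⁻¹ * k ∈ Subgroup.center K := by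
      rw [← hker, MonoidHom.mem_ker, map_mul, map_inv, he, inv_mul_cancel]
    have hz' : (c⁻¹ * k : K).1 ∈ ⁅K, K⁆ :=
      Subgroup.commutator_mono hle hle (center_le_commutator ((center_eq hle).le ⟨_, hz, rfl⟩))
    rw [← K.map_subtype_commutator] at hz'
    obtain ⟨t, ht, hte⟩ := hz'
    rw [Subgroup.subtype_apply, Subtype.coe_inj] at hte
    rw [show k = c * t by rw [hte, mul_inv_cancel_left]]
    exact mul_mem hc ht
  rw [← K.map_subtype_commutator, h2, ← MonoidHom.range_eq_map, Subgroup.range_subtype]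

end Cfsg.Agent.Components.UnitarySix
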