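import Cfsg.Agent.Lib.Components.UnitarySix.Cover
import Cfsg.Agent.Lib.MonomialMult.FieldChange

/-!
The three classes of triple covers of the four-dimensional unitary group over nine elements in the
six-dimensional special unitary group over four elements.
-/

set_option autoImplicit false

namespace Cfsg.Agent.Components.UnitarySix

open Cfsg.Agent.InvChar.Coset Matrix
open Cfsg.Agent.MonomialMult (Nine)
open Cfsg.Agent.Classical.Unitary (mat suMk suMk_mulVec)

/-- The scaling of the first coordinate. -/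
def dv : V := Function.update 1 0 .w

/-- The inverse scaling. -/
def dvi : V := Function.update 1 0 .w2

theorem dv_spec : ∀ i, dv i * dvi i = 1 ∧ dvi i * dv i = 1 := by decide +kernel

/-- Conjugation by a diagonal unitary matrix. -/
def conjD (a b : V) (hab : ∀ i, a i * b i = 1) (g : S) : S :=
  suMk (monMat 1 a * mat g * monMat 1 b)
    (by rw [Matrix.det_mul, Matrix.det_mul, det_monMat, det_monMat,
      show (mat g).det = 1 from (g : Matrix.SpecialLinearGroup (Fin 6) FF).2, mul_one, ← Finset.prod_mul_distrib,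
      Finset.prod_eq_one fun i _ => hab i])
    (fun x y => by
      rw [← mulVec_mulVec, ← mulVec_mulVec, ← mulVec_mulVec, ← mulVec_mulVec,
        monMat_preserves 1 (fun i => left_ne_zero_of_mul (hab i ▸ one_ne_zero)),
        Cfsg.Agent.Classical.Unitary.SU_H g,
        monMat_preserves 1 (fun i => right_ne_zero_of_mul (hab i ▸ one_ne_zero))])

theorem conjD_smul (a b : V) (hab : ∀ i, a i * b i = 1) (g : S) (x : V) :
    conjD a b hab g • x = monV 1 a (g • monV 1 b x) := by
  rw [smul_def, conjD, suMk_mulVec, ← mulVec_mulVec, ← mulVec_mulVec, monMat_mulVec, monMat_mulVec]; rfl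

theorem monV_cancel {a b : V} (hab : ∀ i, a i * b i = 1) (x : V) : monV 1 a (monV 1 b x) = x := by
  funext i
  simp [monV, Equiv.Perm.one_def, ← mul_assoc, hab i]

/-- The automorphism permuting the classes. -/
def phi : S ≃* S where
  toFun := conjD dv dvi fun i => (dv_spec i).1
  invFun := conjD dvi dv fun i => (dv_spec i).2
  left_inv g := S_ext fun x => by
    rw [conjD_smul, conjD_smul, monV_cancel fun i => (dv_spec i).2, monV_cancel fun i => (dv_spec i).2]
  right_inv g := S_ext fun x => by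
    rw [conjD_smul, conjD_smul, monV_cancel fun i => (dv_spec i).1, monV_cancel fun i => (dv_spec i).1]
  map_mul' g k := S_ext fun x => by
    rw [conjD_smul, mul_smul, mul_smul, conjD_smul, conjD_smul, monV_cancel fun i => (dv_spec i).2]

theorem conjD_N0 {a b : V} (hab : ∀ i, a i * b i = 1) {g : S} (hg : g ∈ N0) : conjD a b hab g ∈ N0 := by
  obtain ⟨σ, d, hd, hs⟩ := hg
  refine ⟨1 * σ * 1, fun i => a i * d ((1 : Equiv.Perm (Fin 6)).symm i) * b ((1 * σ : Equiv.Perm (Fin 6)).symm i),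
    fun x => ?_, by simpa using hs⟩
  rw [conjD_smul, hd, monV_monV, monV_monV]

theorem conjD_Mon {a b : V} (hab : ∀ i, a i * b i = 1) {g : S} (hg : g ∈ Mon) : conjD a b hab g ∈ Mon := by
  obtain ⟨σ, d, hd⟩ := hg
  refine ⟨1 * σ * 1, fun i => a i * d ((1 : Equiv.Perm (Fin 6)).symm i) * b ((1 * σ : Equiv.Perm (Fin 6)).symm i),
    fun x => ?_⟩
  rw [conjD_smul, hd, monV_monV, monV_monV]

theorem Good.map_phi {K : Subgroup S} (hK : Good K) : Good (K.map phi.toMonoidHom) where
  le x hx := ⟨phi.symm x, hK.le (conjD_N0 (a := dvi) (b := dv) (fun i => (dv_spec i).2) hx), phi.apply_symm_apply x⟩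
  mon := by
    rintro _ ⟨⟨k, hk, rfl⟩, hM⟩
    have : k ∈ Mon := by
      have h := conjD_Mon (a := dvi) (b := dv) (fun i => (dv_spec i).2) hM
      rwa [show conjD dvi dv _ (phi.toMonoidHom k) = k from phi.symm_apply_apply k] at h
    exact conjD_N0 (a := dv) (b := dvi) (fun i => (dv_spec i).1) (hK.mon ⟨hk, this⟩)
  card := by rw [Subgroup.card_map_of_injective phi.injective]; exact hK.card
  perf := by rw [← Subgroup.map_commutator, hK.perf]

theorem InO_dv {j : FF} (x : V) : InO (FF.w * j) (monV 1 dv x) ↔ InO j x := by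
  have h : ∏ i, dv i = .w := by decide +kernel
  rw [InO, InO, wt_monV 1 (fun i => left_ne_zero_of_mul ((dv_spec i).1 ▸ one_ne_zero)), prod_monV, h,
    mul_right_inj' (by decide)]

theorem map_phi_le {K : Subgroup S} {j : FF} (h : K ≤ G j) : K.map phi.toMonoidHom ≤ G (FF.w * j) := by
  rintro _ ⟨g, hg, rfl⟩ x
  obtain ⟨y, rfl⟩ : ∃ y, monV 1 dv y = x := ⟨_, monV_cancel (fun i => (dv_spec i).1) x⟩
  rw [show phi.toMonoidHom g • monV 1 dv y = monV 1 dv (g • y) from by
    rw [show phi.toMonoidHom g = conjD dv dvi (fun i => (dv_spec i).1) g from rfl, conjD_smul,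
      monV_cancel fun i => (dv_spec i).2], InO_dv, InO_dv]
  exact h hg y

section
variable {A B : Type*} [Group A] [Group B] {P : Type*} [Group P]

theorem center_map (e : A ≃* B) : (Subgroup.center A).map e.toMonoidHom = Subgroup.center B := by
  ext b
  simp only [Subgroup.mem_map, Subgroup.mem_center_iff]
  constructor
  · rintro ⟨a, ha, rfl⟩ g
    obtain ⟨g, rfl⟩ := e.surjective g
    show e g * e a = e a * e g
    rw [← map_mul, ← map_mul, ha]
  · intro hb
    exact ⟨e.symm b, fun g => e.injective (by rw [map_mul, map_mul, e.apply_symm_apply, hb]), e.apply_symm_apply b⟩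

/-- A centre of order three with the given quotient. -/
def Trip (K : Subgroup A) (P : Type*) [Group P] : Prop :=
  Nat.card (Subgroup.center K) = 3 ∧ Nonempty (K ⧸ Subgroup.center K ≃* P)

theorem trip_equiv {K : Subgroup A} {L : Subgroup B} (e : K ≃* L) (h : Trip K P) : Trip L P := by
  obtain ⟨h1, ⟨η⟩⟩ := h
  refine ⟨?_, ⟨(QuotientGroup.congr _ _ e (center_map e)).symm.trans η⟩⟩
  rw [← center_map e, Subgroup.card_map_of_injective e.injective, h1]

theorem trip_map {K : Subgroup A} (f : A ≃* B) (h : Trip K P) : Trip (K.map f.toMonoidHom) P :=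
  trip_equiv (K.equivMapOfInjective f.toMonoidHom f.injective) h

end

theorem trip_M : Trip Model.M (Cfsg.PSU 4 Nine 3) :=
  ⟨card_center_of_le Model.N0_le, ⟨(QuotientGroup.quotientMulEquivOfEq Model.ker_eq_center.symm).trans
    (QuotientGroup.quotientKerEquivOfSurjective _ Model.ψ_surjective)⟩⟩

theorem exists_good_conj {K : Subgroup S} (h : Trip K (Cfsg.PSU 4 Nine 3)) :
    ∃ g : S, Good (K.map (MulAut.conj g).toMonoidHom) := by
  obtain ⟨hZ, ⟨η⟩⟩ := h
  refine exists_conj_good (η.toMonoidHom.comp (QuotientGroup.mk' _))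
    (η.surjective.comp (QuotientGroup.mk'_surjective _)) ?_ hZ
  ext x
  simp

/-- The three classes. -/
theorem exists_three : ∃ K : Fin 3 → Subgroup S, (∀ i, Trip (K i) (Cfsg.PSU 4 Nine 3)) ∧
    (∀ i k, i ≠ k → ¬ ∃ g : S, (K i).map (MulAut.conj g).toMonoidHom = K k) ∧
    ∀ L : Subgroup S, Trip L (Cfsg.PSU 4 Nine 3) →
      ∃ g : S, ∃ i, L.map (MulAut.conj g).toMonoidHom = K i := by
  obtain ⟨j, hj, -, hM, -⟩ := Model.good_M.exists_j
  let K : Fin 3 → Subgroup S :=
    ![Model.M, Model.M.map phi.toMonoidHom, (Model.M.map phi.toMonoidHom).map phi.toMonoidHom]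
  let J : Fin 3 → FF := ![j, .w * j, .w * (.w * j)]
  have hle0 : Model.M ≤ G j := by
    rw [hM, Subgroup.commutator_le]
    exact fun a ha b hb => mul_mem (mul_mem (mul_mem ha hb) (inv_mem ha)) (inv_mem hb)
  have hgood : ∀ i, Good (K i) := by
    intro i; fin_cases i
    exacts [Model.good_M, Model.good_M.map_phi, Model.good_M.map_phi.map_phi]
  have hle : ∀ i, K i ≤ G (J i) := by
    intro i; fin_cases i
    exacts [hle0, map_phi_le hle0, map_phi_le (map_phi_le hle0)]
  have hJ : (∀ i, J i ≠ 0) ∧ Function.Injective J ∧ ∀ a : FF, a ≠ 0 → ∃ i, J i = a := by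
    rcases FF_cases j hj with rfl | rfl | rfl <;> exact ⟨by decide +kernel, by decide +kernel, by decide +kernel⟩
  refine ⟨K, fun i => ?_, fun i k hik ⟨g, hg⟩ => ?_, fun L hL => ?_⟩
  · fin_cases i
    exacts [trip_M, trip_map phi trip_M, trip_map phi (trip_map phi trip_M)]
  · exact hik (hJ.2.1 (Good.not_conj (hgood i) (hgood k) (hJ.1 i) (hJ.1 k) (hle i) (hle k) hg))
  · obtain ⟨g, hg⟩ := exists_good_conj hL
    obtain ⟨a, ha, -, hLa, -⟩ := hg.exists_j
    obtain ⟨i, rfl⟩ := hJ.2.2 a ha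
    exact ⟨g, i, hLa.trans ((hgood i).spec (hle i)).2.1.symm⟩

theorem result (F : Type) [Field F] [Fintype F] (hF : Fintype.card F = 4) (F9 : Type) [Field F9] [Fintype F9]
    (hF9 : Fintype.card F9 = 9) : ∃ K₁ K₂ K₃ : Subgroup ↥(Cfsg.SU 6 F 2),
      (∀ K ∈ [K₁, K₂, K₃], Nat.card ↥(Subgroup.center ↥K) = 3 ∧
        Nonempty (↥K ⧸ Subgroup.center ↥K ≃* Cfsg.PSU 4 F9 3)) ∧
      (¬ ∃ g : ↥(Cfsg.SU 6 F 2), K₁.map (MulAut.conj g).toMonoidHom = K₂) ∧
      (¬ ∃ g : ↥(Cfsg.SU 6 F 2), K₁.map (MulAut.conj g).toMonoidHom = K₃) ∧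
      (¬ ∃ g : ↥(Cfsg.SU 6 F 2), K₂.map (MulAut.conj g).toMonoidHom = K₃) ∧
      ∀ K : Subgroup ↥(Cfsg.SU 6 F 2), Nat.card ↥(Subgroup.center ↥K) = 3 →
        Nonempty (↥K ⧸ Subgroup.center ↥K ≃* Cfsg.PSU 4 F9 3) →
        ∃ g : ↥(Cfsg.SU 6 F 2), K.map (MulAut.conj g).toMonoidHom = K₁ ∨
          K.map (MulAut.conj g).toMonoidHom = K₂ ∨ K.map (MulAut.conj g).toMonoidHom = K₃ := by
  let e : FF ≃+* F := FiniteField.ringEquivOfCardEq (K' := F) (by rw [hF]; rfl)
  let e9 : Nine ≃+* F9 := FiniteField.ringEquivOfCardEq (K' := F9) (by rw [hF9]; rfl)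
  obtain ⟨η9⟩ := Cfsg.Agent.MonomialMult.psu_field_equiv (n := 4) (q := 3) e9
  let Φ : S ≃* Cfsg.SU 6 F 2 := Cfsg.Agent.MonomialMult.suFieldMap e
  obtain ⟨K, hK, hnc, hall⟩ := exists_three
  have hconj : ∀ (g : S) (X : Subgroup S), (X.map Φ.toMonoidHom).map (MulAut.conj (Φ g)).toMonoidHom =
      (X.map (MulAut.conj g).toMonoidHom).map Φ.toMonoidHom := fun g X => by
    rw [Subgroup.map_map, Subgroup.map_map]
    congr 1
    ext x : 1
    simp [MulAut.conj_apply]
  have hto : ∀ i, Trip ((K i).map Φ.toMonoidHom) (Cfsg.PSU 4 F9 3) := fun i => by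
    obtain ⟨h1, ⟨η⟩⟩ := trip_map Φ (hK i)
    exact ⟨h1, ⟨η.trans η9⟩⟩
  have hne : ∀ i k, i ≠ k → ¬ ∃ g : ↥(Cfsg.SU 6 F 2),
      ((K i).map Φ.toMonoidHom).map (MulAut.conj g).toMonoidHom = (K k).map Φ.toMonoidHom := by
    rintro i k hik ⟨g, hg⟩
    obtain ⟨g, rfl⟩ := Φ.surjective g
    rw [hconj] at hg
    exact hnc i k hik ⟨g, Subgroup.map_injective Φ.injective hg⟩
  refine ⟨_, _, _, ?_, hne 0 1 (by decide), hne 0 2 (by decide), hne 1 2 (by decide), fun L hZ ⟨η⟩ => ?_⟩
  · intro L hL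
    simp only [List.mem_cons, List.not_mem_nil, or_false] at hL
    rcases hL with rfl | rfl | rfl
    exacts [hto 0, hto 1, hto 2]
  · have h0 : Trip L (Cfsg.PSU 4 Nine 3) := ⟨hZ, ⟨η.trans η9.symm⟩⟩
    obtain ⟨g, i, hgi⟩ := hall _ (trip_map Φ.symm h0)
    have hL : (L.map Φ.symm.toMonoidHom).map Φ.toMonoidHom = L := by
      rw [Subgroup.map_map]
      convert L.map_id
      ext x : 1
      simp
    have : L.map (MulAut.conj (Φ g)).toMonoidHom = (K i).map Φ.toMonoidHom := by
      rw [← hgi, ← hconj, hL]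
    refine ⟨Φ g, ?_⟩
    fin_cases i
    exacts [Or.inl this, Or.inr (Or.inl this), Or.inr (Or.inr this)]

end Cfsg.Agent.Components.UnitarySix
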