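import Cfsg.Agent.Lib.Components.UnitarySix.Tables
import Cfsg.Agent.Lib.Classical.UnitaryMinIndex.FourWitness

/-!
A subgroup of the six-dimensional unitary group over four elements which is a triple cover of the projective
special unitary group of dimension four over nine elements: the two groups act alike on 112 objects.
-/

set_option autoImplicit false
set_option maxRecDepth 100000
set_option maxHeartbeats 1000000

namespace Cfsg.Agent.Components.UnitarySix.Model

open Cfsg.Agent.InvChar.Coset Matrix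
open scoped commutatorElement
open Cfsg.Agent.MonomialMult (Nine)
open Cfsg.Agent.Classical.Unitary (mat)

/-- The pairs acting alike. -/
def R : Subgroup (S × Cfsg.SU 4 Nine 3) :=
  let M : Submonoid (S × Cfsg.SU 4 Nine 3) :=
    { carrier := {p | ∃ π, Maps dec6 frames (mat p.1) π ∧ Maps dec9 lines (mat p.2) π}
      one_mem' := ⟨id, Maps.one _ _, Maps.one _ _⟩
      mul_mem' := fun ⟨π, a, b⟩ ⟨ρ, c, d⟩ => ⟨π ∘ ρ, a.mul c, b.mul d⟩ }
  { M with
    inv_mem' := fun {p} h => by
      have e : p⁻¹ = p ^ (orderOf p - 1) := by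
        rw [inv_eq_iff_mul_eq_one, ← pow_succ', Nat.sub_add_cancel (orderOf_pos p), pow_orderOf_eq_one]
      show p⁻¹ ∈ M
      rw [e]
      exact pow_mem h _ }

/-- The generated group of pairs. -/
def Mhat : Subgroup (S × Cfsg.SU 4 Nine 3) := Subgroup.closure (Set.range fun k => (g k, A k))

theorem Mhat_le : Mhat ≤ R :=
  (Subgroup.closure_le _).2 fun _ ⟨k, hk⟩ => hk ▸ ⟨gperm k, gens_maps k⟩

theorem five_filter :
    (blk lines 0).filter (fun v => (blk lines 2).contains v) = [28] ∧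
    (blk lines 1).filter (fun v => (blk lines 3).contains v) = [46] ∧
    (blk lines 0).filter (fun v => (blk lines 1).contains v) = [2268] ∧
    (blk lines 2).filter (fun v => (blk lines 3).contains v) = [3726] ∧
    (blk lines 4).filter (fun v => (blk lines 6).contains v) = [2440] := by
  decide +kernel

theorem five_coord : ∀ x y : Nine, x + y = 0 → Nine.ofN 3 * x + Nine.ofN 5 * y = 0 → x = 0 ∧ y = 0 := by
  decide +kernel

theorem five_solve : ∀ x y : Nine, ∃ u v : Nine, u + v = x ∧ u * Nine.ofN 3 + v * Nine.ofN 5 = y := by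
  decide +kernel

/-- Fixing all lines means scalar. -/
theorem scalar_of_fix (B : Matrix (Fin 4) (Fin 4) Nine) (hinj : ∀ x, B *ᵥ x = 0 → x = 0)
    (h : Maps dec9 lines B id) : ∃ l : Nine, ∀ x, B *ᵥ x = l • x := by
  have eig : ∀ p (i j : Fin 112), (blk lines i).filter (fun v => (blk lines j).contains v) = [p] →
      ∃ c : Nine, B *ᵥ dec9 p = c • dec9 p := by
    intro p i j hf
    have hp : p ∈ (blk lines i).filter (fun v => (blk lines j).contains v) := hf ▸ List.mem_singleton_self p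
    rw [List.mem_filter, List.contains_iff_mem] at hp
    obtain ⟨w, hw, c, hc⟩ := h i p hp.1
    obtain ⟨w', hw', c', hc'⟩ := h j p hp.2
    have hc0 : c ≠ 0 := fun h0 => by
      have := hinj _ (by rw [hc, h0, zero_smul])
      obtain ⟨a, ha, -⟩ := (member ok9 hp.1).2
      rw [this] at ha
      exact zero_ne_one ha
    obtain ⟨rfl, -⟩ := canon_eq ok9 hw hw' hc0 (hc.symm.trans hc')
    have : w ∈ (blk lines i).filter (fun v => (blk lines j).contains v) := by
      rw [List.mem_filter, List.contains_iff_mem]; exact ⟨hw, hw'⟩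
    rw [hf, List.mem_singleton] at this
    exact ⟨c, this ▸ hc⟩
  obtain ⟨f1, f2, f3, f4, f5⟩ := five_filter
  obtain ⟨c1, h1⟩ := eig _ _ _ f1
  obtain ⟨c2, h2⟩ := eig _ _ _ f2
  obtain ⟨c3, h3⟩ := eig _ _ _ f3
  obtain ⟨c4, h4⟩ := eig _ _ _ f4
  obtain ⟨c5, h5⟩ := eig _ _ _ f5
  have d1 : dec9 28 = ![1, Nine.ofN 3, 0, 0] := by decide +kernel
  have d2 : dec9 46 = ![1, Nine.ofN 5, 0, 0] := by decide +kernel
  have d3 : dec9 2268 = ![0, 0, 1, Nine.ofN 3] := by decide +kernel
  have d4 : dec9 3726 = ![0, 0, 1, Nine.ofN 5] := by decide +kernel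
  have d5 : dec9 2440 = Nine.ofN 8 • dec9 28 + Nine.ofN 5 • dec9 46 + Nine.ofN 5 • dec9 2268
      + Nine.ofN 1 • dec9 3726 := by decide +kernel
  rw [d5] at h5
  simp only [mulVec_add, mulVec_smul] at h5
  rw [h1, h2, h3, h4, d1, d2, d3, d4] at h5
  have q0 := congrFun h5 0
  have q1 := congrFun h5 1
  have q2 := congrFun h5 2
  have q3 := congrFun h5 3
  simp at q0 q1 q2 q3
  obtain ⟨e1, e2⟩ := five_coord (Nine.ofN 8 * (c1 - c5)) (Nine.ofN 5 * (c2 - c5))
    (by linear_combination q0) (by linear_combination q1)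
  obtain ⟨e3, e4⟩ := five_coord (Nine.ofN 5 * (c3 - c5)) (Nine.ofN 1 * (c4 - c5))
    (by linear_combination q2) (by linear_combination q3)
  obtain rfl : c1 = c5 := sub_eq_zero.1 ((mul_eq_zero.1 e1).resolve_left (by decide +kernel))
  obtain rfl : c2 = c1 := sub_eq_zero.1 ((mul_eq_zero.1 e2).resolve_left (by decide +kernel))
  obtain rfl : c3 = c2 := sub_eq_zero.1 ((mul_eq_zero.1 e3).resolve_left (by decide +kernel))
  obtain rfl : c4 = c3 := sub_eq_zero.1 ((mul_eq_zero.1 e4).resolve_left (by decide +kernel))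
  refine ⟨c4, fun x => ?_⟩
  obtain ⟨u, v, huv, huv'⟩ := five_solve (x 0) (x 1)
  obtain ⟨s, t, hst, hst'⟩ := five_solve (x 2) (x 3)
  have hx : x = u • dec9 28 + v • dec9 46 + s • dec9 2268 + t • dec9 3726 := by
    rw [d1, d2, d3, d4]
    funext i
    fin_cases i <;> simp [huv, huv', hst, hst']
  rw [hx]
  simp only [mulVec_add, mulVec_smul, h1, h2, h3, h4, smul_add, smul_comm c4]

theorem snd_central {p : S × Cfsg.SU 4 Nine 3} (hp : p ∈ Mhat) {l : FF} (hl : ∀ x : V, p.1 • x = l • x) :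
    p.2 ∈ Subgroup.center (Cfsg.SU 4 Nine 3) := by
  obtain ⟨π, h6, h9⟩ := Mhat_le hp
  have hl0 : l ≠ 0 := fun h0 => smul_e_ne_zero p.1 0 (by rw [hl, h0, zero_smul])
  obtain rfl := scalar_fix ok6 hl0 hl h6
  refine (Cfsg.Agent.Classical.Unitary.mem_center_iff hF9 (by norm_num) p.2).2 ?_
  obtain ⟨c, hc⟩ := scalar_of_fix (mat p.2) (fun x hx => by
    have := congrArg (fun y => mat p.2⁻¹ *ᵥ y) hx
    simp only [mulVec_mulVec, mulVec_zero] at this
    rwa [← Cfsg.Agent.Classical.Unitary.mat_mul, inv_mul_cancel, Cfsg.Agent.Classical.Unitary.mat_one,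
      one_mulVec] at this) h9
  exact ⟨c, Cfsg.Agent.Classical.Unitary.mat_ext fun x => by rw [smul_mulVec, one_mulVec]; exact hc x⟩

theorem fst_fixes {p : S × Cfsg.SU 4 Nine 3} (hp : p ∈ Mhat) (hc : p.2 ∈ Subgroup.center (Cfsg.SU 4 Nine 3)) :
    Maps dec6 frames (mat p.1) id := by
  obtain ⟨π, h6, h9⟩ := Mhat_le hp
  obtain ⟨l, hl⟩ := (Cfsg.Agent.Classical.Unitary.mem_center_iff hF9 (by norm_num) p.2).1 hc
  have hx : ∀ x, mat p.2 *ᵥ x = l • x := fun x => by rw [hl, smul_mulVec, one_mulVec]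
  have hl0 : l ≠ 0 := fun h0 => by
    have := Cfsg.Agent.Classical.Unitary.SU_H p.2 (Pi.single 0 1) (Pi.single 0 1)
    rw [hx, h0, zero_smul] at this
    simp [Cfsg.hermForm, Pi.single_apply] at this
  obtain rfl := scalar_fix ok9 hl0 hx h9
  exact h6

theorem frame0_ok : (∀ k : Fin 6, 4 ^ k.1 ∈ blk frames 0) ∧
    (∀ v ∈ blk frames 0, wt (dec6 v) = 1) ∧ (∀ k : Fin 6, dec6 (4 ^ k.1) = e k) := by
  decide +kernel

theorem mem_Mon_of_fixes {k : S} (h : Maps dec6 frames (mat k) id) : k ∈ Mon := by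
  obtain ⟨h1, h2, h3⟩ := frame0_ok
  refine mem_Mon_of_wt k fun i => ?_
  obtain ⟨w, hw, c, hc⟩ := h 0 _ (h1 i)
  rw [h3 i] at hc
  have hc0 : c ≠ 0 := fun h0 => smul_e_ne_zero k i (by rw [smul_def, hc, h0, zero_smul])
  rw [smul_def, hc, wt_smul hc0]
  exact h2 w hw

theorem frame3_scalar : ∀ d : V, ∏ i, d i = 1 →
    (∀ v ∈ blk frames 3, ∃ w ∈ blk frames 3, ∃ c : FF, (fun i => d i * dec6 v i) = c • dec6 w) →
    ∀ i, d i = d 0 := by
  decide +kernel

theorem center_of_fixes {k : S} (hk : k ∈ D) (h : Maps dec6 frames (mat k) id) :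
    k ∈ Subgroup.center S := by
  obtain ⟨d, hd⟩ := hk
  have := frame3_scalar d hd.prod fun v hv => by
    obtain ⟨w, hw, c, hc⟩ := h 3 v hv
    refine ⟨w, hw, c, ?_⟩
    rw [← hc, ← smul_def, hd]
    funext i
    simp [monV, Equiv.Perm.one_def]
  refine mem_center_S.2 ⟨d 0, fun x => ?_⟩
  rw [hd]
  funext i
  simp [monV, Equiv.Perm.one_def, this i]

/-- The group. -/
abbrev M : Subgroup S := Mhat.map (MonoidHom.fst _ _)

theorem gen_mem (k : Fin 4) : g k ∈ M := ⟨(g k, A k), Subgroup.subset_closure ⟨k, rfl⟩, rfl⟩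

theorem fst_surjective : Function.Surjective ((MonoidHom.fst S (Cfsg.SU 4 Nine 3)).subgroupMap Mhat) :=
  MonoidHom.subgroupMap_surjective _ _

theorem lift_ker : ((MonoidHom.fst S (Cfsg.SU 4 Nine 3)).subgroupMap Mhat).ker ≤
    ((QuotientGroup.mk' (Subgroup.center (Cfsg.SU 4 Nine 3))).comp
      ((MonoidHom.snd _ _).comp Mhat.subtype)).ker := by
  intro p hp
  have h1 : p.1.1 = 1 := congrArg Subtype.val hp
  rw [MonoidHom.mem_ker]
  refine (QuotientGroup.eq_one_iff _).2 (snd_central p.2 (l := 1) fun x => ?_)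
  show p.1.1 • x = _
  rw [h1, one_smul, one_smul]

/-- The map onto the projective group. -/
noncomputable def ψ : M →* Cfsg.PSU 4 Nine 3 :=
  MonoidHom.liftOfSurjective ((MonoidHom.fst S (Cfsg.SU 4 Nine 3)).subgroupMap Mhat) fst_surjective
    ⟨_, lift_ker⟩

theorem ψ_apply (p : Mhat) : ψ ((MonoidHom.fst S (Cfsg.SU 4 Nine 3)).subgroupMap Mhat p) =
    QuotientGroup.mk p.1.2 :=
  MonoidHom.liftOfRightInverse_comp_apply _ _ _ ⟨_, lift_ker⟩ p

theorem fixes_of_ker {k : M} (hk : k ∈ ψ.ker) : Maps dec6 frames (mat k.1) id := by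
  obtain ⟨p, rfl⟩ := fst_surjective k
  rw [MonoidHom.mem_ker, ψ_apply, QuotientGroup.eq_one_iff] at hk
  exact fst_fixes p.2 hk

/-- The subgroup of permutations in the group. -/
def PL : Subgroup (Equiv.Perm (Fin 6)) := M.comap permHom

/-- The words. -/
def words : Fin 6 → Fin 6 → List Bool
  | 0, 2 => [false]
  | 0, 3 => [true, false, false, true, true, true]
  | 0, 4 => [true, true, false, true, true]
  | 0, 5 => [true, true, true, false, false, true]
  | 1, 2 => [false, false]
  | 1, 3 => [true, false, true, true, true]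
  | 1, 4 => [true, true, false, false, true, true]
  | 1, 5 => [true, true, true, false, true]
  | 2, 3 => [false, true, false, true, true, true, false]
  | 2, 4 => [false, true, true, false, false, true, true, false]
  | 2, 5 => [false, true, true, true, false, true, false]
  | 3, 4 => [true, false, false, true, true, false, true, false, true, false]
  | 3, 5 => [true, true, false, true, true, false, false, true, true, false]
  | 4, 5 => [false, true, false, true, false, true, true, false, false, true]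
  | _, _ => []

theorem words_ok : ∀ a b : Fin 6, a < b →
    Equiv.swap a b * Equiv.swap 0 1 = ((words a b).map fun c => if c then σ2 else σ1).prod := by
  decide +kernel

theorem even_mem {σ : Equiv.Perm (Fin 6)} (hσ : Equiv.Perm.sign σ = 1) : σ ∈ PL := by
  have hgen : ∀ c : Bool, (if c then σ2 else σ1) ∈ PL := fun c => by
    cases c
    · exact gen_mem 1
    · exact gen_mem 2
  have hw : ∀ a b, a ≠ b → Equiv.swap a b * Equiv.swap 0 1 ∈ PL := by
    have h : ∀ a b : Fin 6, a < b → Equiv.swap a b * Equiv.swap 0 1 ∈ PL := fun a b hab => by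
      rw [words_ok a b hab]
      refine list_prod_mem fun x hx => ?_
      obtain ⟨c, -, rfl⟩ := List.mem_map.1 hx
      exact hgen c
    intro a b hab
    rcases lt_or_gt_of_ne hab with h' | h'
    · exact h a b h'
    · rw [Equiv.swap_comm]; exact h b a h'
  have hw' : ∀ a b, a ≠ b → Equiv.swap 0 1 * Equiv.swap a b ∈ PL := fun a b hab => by
    simpa [_root_.mul_inv_rev, Equiv.swap_inv] using inv_mem (hw a b hab)
  suffices (Equiv.Perm.sign σ = 1 → σ ∈ PL) ∧ (Equiv.Perm.sign σ = -1 → Equiv.swap 0 1 * σ ∈ PL) from this.1 hσ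
  clear hσ
  induction σ using Equiv.Perm.swap_induction_on with
  | one => exact ⟨fun _ => one_mem _, fun h => absurd h (by rw [map_one]; decide)⟩
  | swap_mul f x y hxy ih =>
    rw [map_mul, Equiv.Perm.sign_swap hxy]
    rcases Int.units_eq_one_or (Equiv.Perm.sign f) with hf | hf <;> rw [hf]
    · refine ⟨fun h => absurd h (by decide), fun _ => ?_⟩
      rw [← mul_assoc]; exact mul_mem (hw' x y hxy) (ih.1 hf)
    · refine ⟨fun _ => ?_, fun h => absurd h (by decide)⟩
      have := mul_mem (hw x y hxy) (ih.2 hf)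
      rwa [mul_assoc, Equiv.swap_mul_self_mul] at this

theorem dk_conj : ∀ k : Fin 6, k ≠ 0 → k ≠ 1 → ∀ i,
    (dk 1).1 ((Equiv.swap 1 k * Equiv.swap (spare k).1 (spare k).2).symm i) = (dk k).1 i := by
  decide +kernel

theorem N0_le : N0 ≤ M := by
  have hd : D ≤ M := D_le_of fun k hk => by
    by_cases hk1 : k = 1
    · exact hk1 ▸ gen_mem 0
    have hs := spare_ok k hk
    have hσ : Equiv.Perm.sign (Equiv.swap 1 k * Equiv.swap (spare k).1 (spare k).2) = 1 := by
      rw [map_mul, Equiv.Perm.sign_swap (Ne.symm hk1), Equiv.Perm.sign_swap hs.1]; rfl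
    have hp : permS (Equiv.swap 1 k * Equiv.swap (spare k).1 (spare k).2) ∈ M := even_mem hσ
    have h1 := mul_mem (mul_mem hp (gen_mem 0)) (inv_mem hp)
    have : permS (Equiv.swap 1 k * Equiv.swap (spare k).1 (spare k).2) * g 0 *
        (permS (Equiv.swap 1 k * Equiv.swap (spare k).1 (spare k).2))⁻¹ = diagS (dk k) := by
      rw [show g 0 = diagS (dk 1) from rfl, diag_conj]
      exact diagS_ext fun i => dk_conj k hk hk1 i
    exact this ▸ h1
  intro x hx
  obtain ⟨σ, a, hs, rfl⟩ := exists_eq_permS_mul hx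
  exact mul_mem (hd (diagS_mem a)) (even_mem hs)

theorem upd_prod : ∀ a c : Fin 6, c ≠ a →
    ∏ i, (Function.update (Function.update (1 : V) a .w) c .w2) i = 1 := by
  decide +kernel

theorem ne_both : ∀ a b : Fin 6, ∃ c, c ≠ a ∧ c ≠ b := by decide

theorem ker_ψ : ψ.ker = (Subgroup.center S).subgroupOf M := by
  refine le_antisymm (fun k hk => ?_) fun k hk => ?_
  · obtain ⟨σ, d, hd⟩ := mem_Mon_of_fixes (fixes_of_ker hk)
    suffices σ = 1 from center_of_fixes ⟨d, this ▸ hd⟩ (fixes_of_ker hk)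
    ext a : 1
    by_contra hne
    simp only [Equiv.Perm.one_apply] at hne
    obtain ⟨c, hca, hcb⟩ := ne_both a (σ a)
    let u : Dset := ⟨Function.update (Function.update 1 a .w) c .w2, upd_prod a c hca⟩
    have hu : diagS u ∈ M := N0_le (D_le_N0 (diagS_mem u))
    have hck : k * ⟨_, hu⟩ * k⁻¹ * (⟨_, hu⟩ : M)⁻¹ ∈ ψ.ker := by
      rw [MonoidHom.mem_ker, map_mul, map_mul, map_mul, map_inv, map_inv, MonoidHom.mem_ker.1 hk]
      simp
    have hm : IsMon (k.1 * diagS u * k.1⁻¹ * (diagS u)⁻¹) 1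
        (fun i => u.1 (σ.symm i) * (u.1 i)⁻¹) := fun x => by
      funext i
      rw [mul_smul, mul_smul, mul_smul, hd, hd.inv, show (diagS u)⁻¹ • x = _ from (isMon_mkMon 1 u).inv x]
      simp only [monV, diagS_smul, Equiv.symm_symm, Equiv.apply_symm_apply, Equiv.Perm.one_def, Equiv.refl_apply,
        Equiv.refl_symm]
      field_simp [hd.ne_zero i]
    have hD : (k * ⟨_, hu⟩ * k⁻¹ * (⟨_, hu⟩ : M)⁻¹ : M).1 ∈ D := ⟨_, hm⟩
    obtain ⟨l, hl⟩ := mem_center_S.1 (center_of_fixes hD (fixes_of_ker hck))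
    have hval : ∀ i, u.1 (σ.symm i) * (u.1 i)⁻¹ = l := fun i => by
      have := congrFun ((hm (Pi.single i 1)).symm.trans (hl (Pi.single i 1))) i
      simpa [monV, Equiv.Perm.one_def] using this
    obtain ⟨x, hx⟩ : ∃ x, x ∉ ({a, c, σ a, σ c} : Finset (Fin 6)) := by
      by_contra hall
      push Not at hall
      have h6 : (Finset.univ : Finset (Fin 6)).card ≤ ({a, c, σ a, σ c} : Finset (Fin 6)).card :=
        Finset.card_le_card fun i _ => hall i
      have := (Finset.card_le_four (a := a) (b := c) (c := σ a) (d := σ c))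
      simp at h6
      omega
    simp only [Finset.mem_insert, Finset.mem_singleton, not_or] at hx
    obtain ⟨hxa, hxc, hxsa, hxsc⟩ := hx
    have hxa' : σ.symm x ≠ a := fun h' => hxsa (by rw [← h', Equiv.apply_symm_apply])
    have hxc' : σ.symm x ≠ c := fun h' => hxsc (by rw [← h', Equiv.apply_symm_apply])
    have h1 := hval x
    have h2 := hval (σ a)
    simp [u, hxa, hxc, hxa', hxc', hne, Ne.symm hca, Ne.symm hcb] at h1 h2
    rw [← h1] at h2
    exact absurd h2 (by decide)
  · obtain ⟨p, rfl⟩ := fst_surjective k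
    obtain ⟨l, hl⟩ := mem_center_S.1 (hk : p.1.1 ∈ Subgroup.center S)
    rw [MonoidHom.mem_ker, ψ_apply, QuotientGroup.eq_one_iff]
    exact snd_central p.2 hl

theorem card_ker : Nat.card ψ.ker = 3 := by
  rw [ker_ψ, Nat.card_congr (Subgroup.subgroupOfEquivOfLe
    (center_le_D.trans (D_le_N0.trans N0_le))).toEquiv, card_center_S]

theorem card_image {X : Subgroup M} (h : ψ.ker ≤ X) : Nat.card (X.map ψ) * 3 = Nat.card X := by
  have h1 := Subgroup.card_eq_card_quotient_mul_card_subgroup (ψ.comp X.subtype).ker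
  rw [Nat.card_congr (QuotientGroup.quotientKerEquivRange (ψ.comp X.subtype)).toEquiv,
    MonoidHom.range_comp, Subgroup.range_subtype, ← MonoidHom.comap_ker] at h1
  rw [h1, show X.subtype = X.subtype from rfl, ← Subgroup.subgroupOf,
    Nat.card_congr (Subgroup.subgroupOfEquivOfLe h).toEquiv, card_ker]

theorem eq_top_of_card {H : Subgroup (Cfsg.PSU 4 Nine 3)} (h : 58320 ≤ Nat.card H) : H = ⊤ := by
  by_contra hne
  have h1 := Cfsg.Agent.Classical.Unitary.MinIndex.index_bound_PSU hF9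
    (fun I hI => Cfsg.Agent.Classical.Unitary.MinIndex.bound_four hF9 I hI) H hne
  have h2 := (H.card_mul_index).trans card_psu
  have := (Nat.mul_le_mul h h1).trans_eq h2
  norm_num at this

theorem rS_not_Mon : rS ∉ Mon := by
  rintro ⟨σ, d, hd⟩
  have h := wt_monV σ hd.ne_zero (e 0)
  rw [← hd, show rS • e 0 = rMat *ᵥ e 0 from rfl] at h
  revert h
  decide +kernel

theorem big_image {X : Subgroup M} (h : N0.subgroupOf M ≤ X) (hne : N0.subgroupOf M ≠ X) :
    X.map ψ = ⊤ := by
  have hk : ψ.ker ≤ N0.subgroupOf M := by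
    rw [ker_ψ]
    exact fun k hk => D_le_N0 (center_le_D hk)
  refine eq_top_of_card ?_
  have h1 := card_image hk
  rw [Nat.card_congr (Subgroup.subgroupOfEquivOfLe N0_le).toEquiv, card_N0] at h1
  obtain ⟨m, hm⟩ := Subgroup.card_dvd_of_le (Subgroup.map_mono (f := ψ) h)
  rcases Nat.lt_or_ge m 2 with hm2 | hm2
  · refine absurd ?_ hne
    have hlt : Nat.card (X.map ψ) ≤ Nat.card ((N0.subgroupOf M).map ψ) := by
      rw [hm]; exact (Nat.mul_le_mul_left _ (Nat.le_of_lt_succ hm2)).trans (by rw [mul_one])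
    have := Subgroup.eq_of_le_of_card_ge (Subgroup.map_mono (f := ψ) h) hlt
    rw [← Subgroup.comap_map_eq_self hk, this, Subgroup.comap_map_eq_self (hk.trans h)]
  · have := Nat.mul_le_mul_left (Nat.card ((N0.subgroupOf M).map ψ)) hm2
    omega

theorem ψ_surjective : Function.Surjective ψ := by
  rw [← MonoidHom.range_eq_top, MonoidHom.range_eq_map]
  exact big_image le_top fun h => rS_not_Mon (N0_le_Mon (h.ge (Subgroup.mem_top (⟨rS, gen_mem 3⟩ : M))))

theorem card_M : Nat.card M = 9797760 := by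
  have h := card_image (le_top : ψ.ker ≤ ⊤)
  rw [← MonoidHom.range_eq_map, MonoidHom.range_eq_top.2 ψ_surjective, Subgroup.card_top, Subgroup.card_top,
    card_psu] at h
  omega

theorem M_inf_Mon : M ⊓ Mon ≤ N0 := by
  rintro x ⟨hxM, hx⟩
  by_contra hN
  have hle : N0.subgroupOf M ≤ Mon.subgroupOf M := fun k hk => N0_le_Mon hk
  have htop := big_image hle fun h => hN (Subgroup.mem_subgroupOf.1 (h.ge (show (⟨x, hxM⟩ : M) ∈ Mon.subgroupOf M from hx)))
  have hker : ψ.ker ≤ Mon.subgroupOf M := fun k hk => mem_Mon_of_fixes (fixes_of_ker hk)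
  have := Subgroup.comap_map_eq_self hker
  rw [htop, Subgroup.comap_top] at this
  exact rS_not_Mon (this.le (Subgroup.mem_top (⟨rS, gen_mem 3⟩ : M)))

theorem ker_eq_center : ψ.ker = Subgroup.center M := by
  rw [ker_ψ, ← center_eq N0_le, Subgroup.subgroupOf, Subgroup.comap_map_eq_self_of_injective M.subtype_injective]

/-- The model. -/
theorem good_M : Good M :=
  ⟨N0_le, M_inf_Mon, card_M, perfect_of N0_le ψ ψ_surjective ker_eq_center⟩

end Cfsg.Agent.Components.UnitarySix.Model
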