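import Cfsg.Agent.Lib.Components.UnitarySix.Defs

/-!
Recognition of monomial elements from their columns, the normaliser of the diagonal group and the
centraliser of the even monomial group.
-/

set_option autoImplicit false

namespace Cfsg.Agent.Components.UnitarySix

open Cfsg.Agent.InvChar.Coset Matrix
open Cfsg.Agent.Classical.Unitary (mat)

/-- A standard vector. -/
abbrev e (k : Fin 6) : V := Pi.single k 1

theorem smul_e (g : S) (i k : Fin 6) : (g • e k) i = mat g i k := by
  rw [smul_def, Matrix.mulVec_single_one]; rfl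

theorem H_e (i k : Fin 6) : H (e i) (e k) = if i = k then 1 else 0 := by
  rw [show H (e i) (e k) = _ from Cfsg.Agent.Classical.Unitary.H_single_single hF i k]

theorem smul_e_ne_zero (g : S) (k : Fin 6) : g • e k ≠ 0 := fun h => by
  have := H_smul g (e k) (e k)
  rw [h, H_e, if_pos rfl] at this
  simp [Cfsg.hermForm] at this

theorem wt_pos {x : V} (h : x ≠ 0) : 1 ≤ wt x := by
  rw [wt, Nat.one_le_iff_ne_zero, Finset.card_ne_zero]
  obtain ⟨i, hi⟩ := Function.ne_iff.1 h
  exact ⟨i, by simpa using hi⟩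

theorem exists_single_of_wt_one {x : V} (h : wt x = 1) : ∃ i c, c ≠ 0 ∧ x = Pi.single i c := by
  obtain ⟨i, hi⟩ := Finset.card_eq_one.1 h
  have hm : ∀ j, x j ≠ 0 ↔ j = i := fun j => by simpa using Finset.ext_iff.1 hi j
  refine ⟨i, x i, (hm i).2 rfl, funext fun j => ?_⟩
  by_cases hj : j = i
  · subst hj; simp
  · rw [Pi.single_eq_of_ne hj]; simpa [hj] using hm j

theorem wt_single {i : Fin 6} {c : FF} (hc : c ≠ 0) : wt (Pi.single i c) = 1 := by
  rw [wt, Finset.card_eq_one]
  refine ⟨i, Finset.ext fun j => ?_⟩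
  by_cases hj : j = i <;> simp [hj, hc]

theorem single_orth {g : S} {i k a b : Fin 6} {c c' : FF} (hik : i ≠ k) (hc : c ≠ 0) (hc' : c' ≠ 0)
    (hi : g • e i = Pi.single a c) (hk : g • e k = Pi.single b c') : a ≠ b := fun hab => by
  have := H_smul g (e i) (e k)
  rw [hi, hk, hab, H_e, if_neg hik] at this
  simp [Cfsg.hermForm, Pi.single_apply, hc, hc'] at this

theorem mem_Mon_of_wt (g : S) (h : ∀ k, wt (g • e k) = 1) : g ∈ Mon := by
  choose f c hc hg using fun k => exists_single_of_wt_one (h k)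
  have hf : Function.Injective f := fun i k hik => by
    by_contra hne
    exact single_orth hne (hc i) (hc k) (hg i) (hg k) hik
  let σ : Equiv.Perm (Fin 6) := Equiv.ofBijective f (Finite.injective_iff_bijective.1 hf)
  refine ⟨σ, fun i => c (σ.symm i), fun x => ?_⟩
  rw [smul_def, ← monMat_mulVec]
  congr 1
  ext i k
  rw [← smul_e, hg k]
  by_cases hik : i = σ k
  · subst hik; simp [monMat, show f k = σ k from rfl]
  · simp [monMat, hik, show f k = σ k from rfl]

theorem pair_counts : ∀ a b : FF,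
    (∑ c ∈ ({1, .w, .w2} : Finset FF), if a + c * b ≠ 0 then 1 else 0 : ℕ) =
      3 * (if (a ≠ 0) ↔ (b ≠ 0) then 0 else 1) + 2 * (if a ≠ 0 ∧ b ≠ 0 then 1 else 0) ∧
    (if a ≠ 0 then 1 else 0 : ℕ) + (if b ≠ 0 then 1 else 0) =
      (if (a ≠ 0) ↔ (b ≠ 0) then 0 else 1) + 2 * (if a ≠ 0 ∧ b ≠ 0 then 1 else 0) := by
  decide

/-- Two vectors all of whose proper combinations have weight two. -/
theorem pair_cases {u v : V} (hu : u ≠ 0) (hv : v ≠ 0) (h : ∀ c : FF, c ≠ 0 → wt (u + c • v) = 2) :
    (wt u = 1 ∧ wt v = 1) ∨ (wt u = 3 ∧ ∀ t, u t ≠ 0 ↔ v t ≠ 0) := by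
  have hw : ∀ x : V, wt x = ∑ t, if x t ≠ 0 then 1 else 0 := fun x => Finset.card_filter _ _
  let a : ℕ := ∑ t, if (u t ≠ 0) ↔ (v t ≠ 0) then 0 else 1
  let b : ℕ := ∑ t, if u t ≠ 0 ∧ v t ≠ 0 then 1 else 0
  have h6 : 3 * a + 2 * b = 6 := by
    have : ∑ c ∈ ({1, .w, .w2} : Finset FF), wt (u + c • v) = 6 := by
      rw [Finset.sum_congr rfl fun c hc => h c (by revert hc; revert c; decide)]
      rfl
    rw [← this, Finset.sum_congr rfl fun c _ => hw _, Finset.sum_comm, Finset.mul_sum, Finset.mul_sum,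
      ← Finset.sum_add_distrib]
    refine Finset.sum_congr rfl fun t _ => ?_
    simp only [Pi.add_apply, Pi.smul_apply, smul_eq_mul, (pair_counts (u t) (v t)).1]
  have h2 : wt u + wt v = a + 2 * b := by
    rw [hw, hw, ← Finset.sum_add_distrib, Finset.mul_sum, ← Finset.sum_add_distrib]
    exact Finset.sum_congr rfl fun t _ => (pair_counts (u t) (v t)).2
  have := wt_pos hu
  have := wt_pos hv
  by_cases ha : a = 0
  · refine Or.inr ?_
    have hiff : ∀ t, u t ≠ 0 ↔ v t ≠ 0 := fun t => by
      by_contra hne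
      have := Finset.sum_eq_zero_iff.1 ha t (Finset.mem_univ t)
      rw [if_neg hne] at this
      omega
    refine ⟨?_, hiff⟩
    have : wt u = wt v := by simp only [wt, hiff]
    omega
  · omega

/-- The column lemma. -/
theorem mem_Mon_of_pairs {g : S}
    (h : ∀ i k : Fin 6, i ≠ 0 → k ≠ 0 → i ≠ k → ∀ c : FF, c ≠ 0 → wt (g • (e i + c • e k)) = 2) :
    g ∈ Mon := by
  have hp : ∀ i k : Fin 6, i ≠ 0 → k ≠ 0 → i ≠ k → ∀ c : FF, c ≠ 0 → wt (g • e i + c • g • e k) = 2 :=
    fun i k hi hk hik c hc => by rw [← smul_comm g c, ← smul_add]; exact h i k hi hk hik c hc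
  have hc2 := fun i k hi hk hik =>
    pair_cases (smul_e_ne_zero g i) (smul_e_ne_zero g k) (hp i k hi hk hik)
  by_cases h1 : wt (g • e 1) = 1
  · have hall : ∀ k : Fin 6, k ≠ 0 → wt (g • e k) = 1 := fun k hk => by
      by_cases hk1 : k = 1
      · rw [hk1, h1]
      · rcases hc2 1 k (by decide) hk (Ne.symm hk1) with ⟨-, h'⟩ | ⟨h', -⟩
        · exact h'
        · omega
    refine mem_Mon_of_wt g fun k => if hk : k = 0 then ?_ else hall k hk
    subst hk
    choose f c hc hg using fun k : Fin 5 => exists_single_of_wt_one (hall k.succ (Fin.succ_ne_zero k))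
    have hf : Function.Injective f := fun i j hij => by
      by_contra hne
      exact single_orth (fun he => hne (Fin.succ_injective _ he)) (hc i) (hc j) (hg i) (hg j) hij
    have hz : ∀ k, (g • e 0) (f k) = 0 := fun k => by
      have := H_smul g (e 0) (e k.succ)
      rw [hg k, H_e, if_neg (Ne.symm (Fin.succ_ne_zero k))] at this
      simpa [Cfsg.hermForm, Pi.single_apply, hc k] using this
    refine le_antisymm ?_ (wt_pos (smul_e_ne_zero g 0))
    calc wt (g • e 0) ≤ ((Finset.univ.image f)ᶜ).card := Finset.card_le_card fun i hi => by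
          simp only [Finset.mem_filter_univ] at hi
          simp only [Finset.mem_compl, Finset.mem_image, Finset.mem_univ, true_and, not_exists]
          exact fun k hk => hi (hk ▸ hz k)
      _ = 1 := by rw [Finset.card_compl, Finset.card_image_of_injective _ hf]; rfl
  · exfalso
    let T := Finset.univ.filter fun t => (g • e 1) t ≠ 0
    have hT : T.card = 3 := by
      rcases hc2 1 2 (by decide) (by decide) (by decide) with ⟨h', -⟩ | ⟨h', -⟩
      · exact absurd h' h1
      · exact h'
    have hoff : ∀ k : Fin 6, k ≠ 0 → ∀ t, t ∉ T → mat g t k = 0 := fun k hk t ht => by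
      rw [← smul_e]
      by_cases hk1 : k = 1
      · simpa [T, hk1] using ht
      · rcases hc2 1 k (by decide) hk (Ne.symm hk1) with ⟨h', -⟩ | ⟨-, h'⟩
        · exact absurd h' h1
        · by_contra hne
          exact ht (by simpa [T] using (h' t).2 hne)
    let f : (Fin 5 → FF) → (↥T → FF) := fun a t => (g • (Fin.cons 0 a : V)) t.1
    have hf : Function.Injective f := fun a b hab => by
      refine Fin.cons_right_injective (α := fun _ => FF) (0 : FF) (MulAction.injective g (funext fun t => ?_))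
      by_cases ht : t ∈ T
      · exact congrFun hab ⟨t, ht⟩
      · have hz : ∀ a : Fin 5 → FF, (g • (Fin.cons 0 a : V)) t = 0 := fun a => by
          rw [smul_def, Matrix.mulVec, dotProduct, Fin.sum_univ_succ]
          simp [hoff _ (Fin.succ_ne_zero _) t ht]
        exact (hz a).trans (hz b).symm
    have := Fintype.card_le_of_injective f hf
    simp only [Fintype.card_fun, Fintype.card_fin, Fintype.card_coe, hT, FF.card] at this
    omega

theorem wt_e_add {i k : Fin 6} (hik : i ≠ k) {c : FF} (hc : c ≠ 0) : wt (e i + c • e k) = 2 := by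
  rw [wt, Finset.card_eq_two]
  refine ⟨i, k, hik, Finset.ext fun t => ?_⟩
  by_cases h1 : t = i
  · subst h1; simp [hik]
  · by_cases h2 : t = k
    · subst h2; simp [Ne.symm hik, hc]
    · simp [h1, h2]

theorem mem_Mon_of_two {g : S} (h : ∀ x, wt x = 2 → wt (g • x) = 2) : g ∈ Mon :=
  mem_Mon_of_pairs fun _ _ _ _ hik _ hc => h _ (wt_e_add hik hc)

theorem mem_Mon_of_fix {j k : FF} (hk : k ≠ 0) {g : S} (hg : g • e 0 = e 0)
    (h : ∀ x, InO j x → InO k (g • x)) : g ∈ Mon := by
  refine mem_Mon_of_pairs fun i l hi hl hil c hc => ?_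
  rcases h _ (Or.inl (wt_e_add hil hc)) with h' | h'
  · exact h'
  · refine absurd (Finset.prod_eq_zero (Finset.mem_univ (0 : Fin 6)) ?_) (h' ▸ hk)
    have := H_smul g (e i + c • e l) (e 0)
    rw [hg] at this
    rw [show H (g • (e i + c • e l)) (e 0) = _ from Cfsg.Agent.Classical.Unitary.H_single_right hF _ 0,
      show H (e i + c • e l) (e 0) = _ from Cfsg.Agent.Classical.Unitary.H_single_right hF _ 0] at this
    rw [this]
    simp [Ne.symm hi, Ne.symm hl]

theorem eq_of_Mon_maps {j k : FF} (hj : j ≠ 0) {g : S} (hg : g ∈ Mon)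
    (h : ∀ x, InO j x → InO k (g • x)) : j = k := by
  obtain ⟨σ, d, hd⟩ := hg
  let x : V := Function.update 1 0 j
  have hx : ∀ i, x i ≠ 0 := fun i => by
    by_cases hi : i = 0
    · subst hi; simpa [x] using hj
    · simp [x, hi]
  have hp : ∏ i, x i = j := by simp [x, Fin.prod_univ_succ]
  rcases h x (Or.inr hp) with h' | h'
  · rw [hd, wt_monV σ hd.ne_zero, wt, Finset.filter_true_of_mem fun i _ => hx i] at h'
    simp at h'
  · rw [hd, prod_monV, hd.prod, one_mul, hp] at h'
    exact h'

theorem exists_Dset (a b : Fin 6) (h : a ≠ b) : ∃ d : Dset, d.1 a ≠ d.1 b :=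
  ⟨⟨Function.update (Function.update 1 a .w) b .w2, by revert h; revert a b; decide +kernel⟩,
    by simp [h]⟩

/-- An even permutation carrying a set onto another of the same size. -/
theorem exists_even_map {s t : Finset (Fin 6)} (h : s.card = t.card) :
    ∃ σ : Equiv.Perm (Fin 6), Equiv.Perm.sign σ = 1 ∧ ∀ i, σ i ∈ t ↔ i ∈ s := by
  classical
  let eqv : {i // i ∈ s} ≃ {i // i ∈ t} := Fintype.equivOfCardEq (by simpa using h)
  have h0 : ∀ i, eqv.extendSubtype i ∈ t ↔ i ∈ s := fun i => by
    by_cases hi : i ∈ s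
    · exact ⟨fun _ => hi, fun _ => eqv.extendSubtype_mem i hi⟩
    · exact ⟨fun h' => absurd h' (eqv.extendSubtype_not_mem i hi), fun h' => absurd h' hi⟩
  rcases Int.units_eq_one_or (Equiv.Perm.sign eqv.extendSubtype) with hs | hs
  · exact ⟨_, hs, h0⟩
  have : ∃ a b, a ≠ b ∧ (a ∈ t ↔ b ∈ t) := by
    by_contra hne
    push Not at hne
    have h01 := hne 0 1 (by decide)
    have h02 := hne 0 2 (by decide)
    have h12 := hne 1 2 (by decide)
    tauto
  obtain ⟨a, b, hab, hmem⟩ := this
  refine ⟨Equiv.swap a b * eqv.extendSubtype, ?_, fun i => ?_⟩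
  · rw [map_mul, Equiv.Perm.sign_swap hab, hs]; rfl
  · rw [← h0 i, Equiv.Perm.mul_apply]
    by_cases ha : eqv.extendSubtype i = a
    · rw [ha, Equiv.swap_apply_left, hmem]
    · by_cases hb : eqv.extendSubtype i = b
      · rw [hb, Equiv.swap_apply_right, hmem]
      · rw [Equiv.swap_apply_of_ne_of_ne ha hb]

theorem exists_even_apply (k : Fin 6) : ∃ σ : Equiv.Perm (Fin 6), Equiv.Perm.sign σ = 1 ∧ σ 0 = k := by
  obtain ⟨σ, hs, h⟩ := exists_even_map (s := {0}) (t := {k}) (by simp)
  exact ⟨σ, hs, by simpa using (h 0).2 (Finset.mem_singleton_self 0)⟩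

/-- A normaliser of the diagonal group is monomial. -/
theorem mem_Mon_of_normalises {g : S} (h : ∀ d ∈ D, g * d * g⁻¹ ∈ D) : g ∈ Mon := by
  refine mem_Mon_of_wt g fun k => le_antisymm (Finset.card_le_one.2 fun a ha b hb => ?_)
    (wt_pos (smul_e_ne_zero g k))
  by_contra hab
  obtain ⟨d, hd⟩ := exists_Dset a b hab
  let f : D → D := fun x => ⟨g * x.1 * g⁻¹, h x.1 x.2⟩
  have hf : Function.Injective f := fun x y he => Subtype.ext (by simpa [f] using congrArg Subtype.val he)
  obtain ⟨⟨x, d', hd'⟩, hx⟩ := (Finite.injective_iff_bijective.1 hf).2 ⟨diagS d, diagS_mem d⟩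
  have hx' : g * x * g⁻¹ = diagS d := congrArg Subtype.val hx
  have he : diagS d • g • e k = d' k • g • e k := by
    rw [← hx', mul_smul, mul_smul, inv_smul_smul, hd' (e k), monV_single,
      ← smul_comm g (d' k)]
    congr 1
    funext i
    by_cases hi : i = k
    · subst hi; simp
    · simp [hi]
  simp only [Finset.mem_filter_univ] at ha hb
  have h1 := congrFun he a
  have h2 := congrFun he b
  rw [diagS_smul, Pi.smul_apply, smul_eq_mul] at h1 h2
  exact hd ((mul_right_cancel₀ ha h1).trans (mul_right_cancel₀ hb h2).symm)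

theorem mem_D_of_comm {g : S} (h : ∀ d ∈ D, g * d = d * g) : g ∈ D := by
  obtain ⟨σ, c, hg⟩ := mem_Mon_of_normalises (g := g) fun d hd => by
    rw [h d hd, mul_inv_cancel_right]; exact hd
  suffices σ = 1 from ⟨c, this ▸ hg⟩
  ext a : 1
  by_contra hne
  obtain ⟨d, hd⟩ := exists_Dset (σ a) a hne
  have := congrFun (((isMon_mkMon 1 d).mul hg).unique
    (h (diagS d) (diagS_mem d) ▸ hg.mul (isMon_mkMon 1 d))).2 (σ a)
  simp only [Equiv.symm_apply_apply] at this
  refine hd (mul_right_cancel₀ (hg.ne_zero (σ a)) ?_)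
  simpa [mul_comm, Equiv.Perm.one_def] using this

theorem mem_center_S {g : S} : g ∈ Subgroup.center S ↔ ∃ l : FF, ∀ x : V, g • x = l • x := by
  rw [Cfsg.Agent.Classical.Unitary.mem_center_iff hF (by norm_num)]
  refine exists_congr fun l => ⟨fun h x => ?_, fun h => ?_⟩
  · rw [smul_def, h, Matrix.smul_mulVec, Matrix.one_mulVec]
  · refine Cfsg.Agent.Classical.Unitary.mat_ext fun x => ?_
    rw [Matrix.smul_mulVec, Matrix.one_mulVec]; exact h x

theorem card_center_S : Nat.card (Subgroup.center S) = 3 :=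
  Cfsg.Agent.Classical.Unitary.natCard_center hF (by norm_num)

theorem center_le_D : Subgroup.center S ≤ D :=
  fun _ hg => mem_D_of_comm fun d _ => (Subgroup.mem_center_iff.1 hg d).symm

theorem mem_center_of_comm {g : S} (h : ∀ k ∈ N0, g * k = k * g) : g ∈ Subgroup.center S := by
  obtain ⟨c, hg⟩ := mem_D_of_comm (g := g) fun d hd => h d (D_le_N0 hd)
  refine mem_center_S.2 ⟨c 0, fun x => ?_⟩
  suffices ∀ k, c k = c 0 by rw [hg]; funext i; simp [monV, Equiv.Perm.one_def, this i]
  intro k
  obtain ⟨σ, hs, rfl⟩ := exists_even_apply k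
  let o : Dset := ⟨1, by simp⟩
  have := congrFun ((hg.mul (isMon_mkMon σ o)).unique
    ((h _ (mkMon_mem_N0 hs o)).symm ▸ (isMon_mkMon σ o).mul hg)).2 (σ 0)
  simpa [o, Equiv.Perm.one_def] using this

/-- The stabiliser of a standard vector in the monomial group. -/
theorem card_Mon_stab : Nat.card {g : S // g ∈ Mon ∧ g • e 0 = e 0} = 9720 := by
  have ho : Nat.card (MulAction.orbit Mon (e 0)) = 18 := by
    have : MulAction.orbit Mon (e 0) = {x : V | wt x = 1} := by
      ext x
      constructor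
      · rintro ⟨⟨g, σ, d, hg⟩, rfl⟩
        show wt (g • e 0) = 1
        rw [hg, wt_monV σ hg.ne_zero, wt_single one_ne_zero]
      · intro hx
        obtain ⟨i, c, hc, rfl⟩ := exists_single_of_wt_one hx
        let a : Fin 6 := if i = 0 then 1 else 0
        have hai : a ≠ i := by
          by_cases hi : i = 0
          · simp [a, hi]
          · simpa [a, hi] using Ne.symm hi
        let d : Dset := ⟨Function.update (Function.update 1 i c) a c⁻¹, by
          rw [Finset.prod_eq_mul a i hai (fun t _ ht => by simp [ht.1, ht.2]) (by simp) (by simp)]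
          simp [hai.symm, hc]⟩
        refine ⟨⟨mkMon (Equiv.swap 0 i) d, _, _, isMon_mkMon _ d⟩, ?_⟩
        show mkMon (Equiv.swap 0 i) d • e 0 = Pi.single i c
        rw [mkMon_smul, monV_single, Equiv.swap_apply_left]
        simp [d, hai.symm]
    rw [this, Nat.card_eq_fintype_card, Fintype.card_subtype]
    decide +kernel
  have hs := Subgroup.card_eq_card_quotient_mul_card_subgroup (MulAction.stabilizer Mon (e 0))
  rw [← Nat.card_congr (MulAction.orbitEquivQuotientStabilizer Mon (e 0)), ho, card_Mon] at hs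
  have : Nat.card {g : S // g ∈ Mon ∧ g • e 0 = e 0} = Nat.card (MulAction.stabilizer Mon (e 0)) :=
    Nat.card_congr
      { toFun := fun g => ⟨⟨g.1, g.2.1⟩, g.2.2⟩
        invFun := fun g => ⟨g.1.1, g.1.2, g.2⟩
        left_inv := fun _ => rfl
        right_inv := fun _ => rfl }
  omega

end Cfsg.Agent.Components.UnitarySix
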