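import Cfsg.Agent.Lib.Components.UnitarySix.Monomial

/-!
Perfect subgroups of order 9797760 containing the even monomial group are the derived groups of the
stabilisers of the sets of 378 vectors, and are conjugate only when these sets are equal.
-/

set_option autoImplicit false

namespace Cfsg.Agent.Components.UnitarySix

open Cfsg.Agent.InvChar.Coset Matrix
open scoped commutatorElement

/-- The hypotheses on a subgroup. -/
structure Good (K : Subgroup S) : Prop where
  le : N0 ≤ K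
  mon : K ⊓ Mon ≤ N0
  card : Nat.card K = 9797760
  perf : ⁅K, K⁆ = K

/-- The base vector. -/
def e01 : V := e 0 + e 1

theorem wt_e01 : wt e01 = 2 := by
  simpa [e01] using wt_e_add (i := 0) (k := 1) (by decide) (one_ne_zero (α := FF))

/-- Non-zero isotropic. -/
def Iso (x : V) : Prop := wt x = 2 ∨ wt x = 4 ∨ wt x = 6

instance (x : V) : Decidable (Iso x) := inferInstanceAs (Decidable (_ ∨ _))

/-- The class of a vector. -/
def cls (x : V) : Fin 5 :=
  if wt x = 2 then 0 else if wt x = 4 then 1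
  else if ∏ i, x i = 1 then 2 else if ∏ i, x i = .w then 3 else 4

theorem prod_ne_zero_of_wt {x : V} (h : wt x = 6) : ∏ i, x i ≠ 0 := by
  refine Finset.prod_ne_zero_iff.2 fun i _ => ?_
  have := Finset.card_eq_iff_eq_univ (s := Finset.univ.filter fun i => x i ≠ 0)
  rw [Fintype.card_fin] at this
  simpa using Finset.ext_iff.1 (this.1 h) i

theorem wt_six_of_prod {x : V} (h : ∏ i, x i ≠ 0) : wt x = 6 := by
  rw [wt, Finset.filter_true_of_mem fun i _ => Finset.prod_ne_zero_iff.1 h i (Finset.mem_univ i)]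
  rfl

theorem Iso_of_InO {j : FF} (hj : j ≠ 0) {x : V} (h : InO j x) : Iso x := by
  rcases h with h | h
  · exact Or.inl h
  · exact Or.inr (Or.inr (wt_six_of_prod (h ▸ hj)))

theorem exists_N0_of_wt {x y : V} (h : wt x = wt y) (hy : wt y < 6) : ∃ g ∈ N0, g • x = y := by
  classical
  obtain ⟨σ, hs, hσ⟩ := exists_even_map (s := Finset.univ.filter fun i => x i ≠ 0)
    (t := Finset.univ.filter fun i => y i ≠ 0) h
  have hxy : ∀ i, y i = 0 ↔ x (σ.symm i) = 0 := fun i => by
    have := hσ (σ.symm i)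
    simp only [Equiv.apply_symm_apply, Finset.mem_filter_univ] at this
    tauto
  obtain ⟨z, hz⟩ : ∃ z, y z = 0 := by
    by_contra hne
    push Not at hne
    rw [wt, Finset.filter_true_of_mem fun i _ => hne i] at hy
    simp at hy
  let d0 : V := fun i => if y i = 0 then 1 else y i * (x (σ.symm i))⁻¹
  have hd0 : ∀ i, d0 i ≠ 0 := fun i => by
    simp only [d0]
    split_ifs with h'
    · exact one_ne_zero
    · exact mul_ne_zero h' (inv_ne_zero (mt (hxy i).2 h'))
  let d : V := Function.update d0 z (∏ i ∈ Finset.univ \ {z}, d0 i)⁻¹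
  have hd : ∏ i, d i = 1 := by
    rw [Finset.prod_update_of_mem (Finset.mem_univ z)]
    exact inv_mul_cancel₀ (Finset.prod_ne_zero_iff.2 fun i _ => hd0 i)
  refine ⟨mkMon σ ⟨d, hd⟩, mkMon_mem_N0 hs _, ?_⟩
  rw [mkMon_smul]
  funext i
  by_cases hi : y i = 0
  · simp [monV, hi, (hxy i).1 hi]
  · have hiz : i ≠ z := fun h' => hi (h' ▸ hz)
    simp [monV, d, d0, hiz, hi, mt (hxy i).2 hi]

theorem exists_N0_of_prod {x y : V} (h : ∏ i, x i = ∏ i, y i) (hx : ∏ i, x i ≠ 0) :
    ∃ g ∈ N0, g • x = y := by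
  have hxi := fun i => Finset.prod_ne_zero_iff.1 hx i (Finset.mem_univ i)
  refine ⟨mkMon 1 ⟨fun i => y i * (x i)⁻¹, ?_⟩, mkMon_mem_N0 (map_one _) _, ?_⟩
  · rw [Finset.prod_mul_distrib, Finset.prod_inv_distrib, ← h, mul_inv_cancel₀ hx]
  · rw [mkMon_smul]
    funext i
    simp [monV, Equiv.Perm.one_def, hxi i]

theorem FF_cases (a : FF) (h : a ≠ 0) : a = 1 ∨ a = .w ∨ a = .w2 := by
  revert h; revert a; decide

theorem exists_N0_of_cls {x y : V} (hx : Iso x) (hy : Iso y) (h : cls x = cls y) :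
    ∃ g ∈ N0, g • x = y := by
  rcases hx with hx | hx | hx <;> rcases hy with hy | hy | hy
  all_goals first
    | exact exists_N0_of_wt (hx.trans hy.symm) (by omega)
    | (exfalso; revert h; simp only [cls, hx, hy]; norm_num; done)
    | (exfalso; revert h; simp only [cls, hx, hy]; norm_num; split_ifs <;> decide)
    | skip
  have h1 := prod_ne_zero_of_wt hx
  have h2 := prod_ne_zero_of_wt hy
  refine exists_N0_of_prod ?_ h1
  simp only [cls, hx, hy] at h
  norm_num at h
  rcases FF_cases _ h1 with a | a | a <;> rcases FF_cases _ h2 with b | b | b <;> rw [a, b] at h ⊢ <;>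
    first
      | rfl
      | (exfalso; revert h; decide)

theorem cls_card : ∀ c : Fin 5, (Finset.univ.filter fun x : V => Iso x ∧ cls x = c).card =
    ![135, 1215, 243, 243, 243] c := by
  decide +kernel

theorem two_sums : ∀ b : Fin 5 → Bool,
    ((∑ c, if b c then ![135, 1215, 243, 243, 243] c else 0 : ℕ) = 378 →
      b = ![true, false, true, false, false] ∨ b = ![true, false, false, true, false] ∨
      b = ![true, false, false, false, true]) ∧
    (b 0 = true → 15120 % (∑ c, if b c then ![135, 1215, 243, 243, 243] c else 0 : ℕ) = 0 →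
      (∑ c, if b c then ![135, 1215, 243, 243, 243] c else 0 : ℕ) = 378 ∨
      b = ![true, false, false, false, false]) := by
  decide +kernel

/-- The classes of an invariant set. -/
theorem invariant_set {O : Set V} (h : ∀ g ∈ N0, ∀ x ∈ O, g • x ∈ O) (hiso : ∀ x ∈ O, Iso x) :
    ∃ b : Fin 5 → Bool, (∀ x, x ∈ O ↔ Iso x ∧ b (cls x) = true) ∧
      Nat.card O = ∑ c, if b c then ![135, 1215, 243, 243, 243] c else 0 := by
  classical
  let b : Fin 5 → Bool := fun c => decide (∃ x ∈ O, cls x = c)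
  have hmem : ∀ x, x ∈ O ↔ Iso x ∧ b (cls x) = true := fun x => by
    refine ⟨fun hx => ⟨hiso x hx, decide_eq_true ⟨x, hx, rfl⟩⟩, fun ⟨hx, hb⟩ => ?_⟩
    obtain ⟨y, hy, hc⟩ := of_decide_eq_true hb
    obtain ⟨g, hg, rfl⟩ := exists_N0_of_cls (hiso y hy) hx hc
    exact h g hg y hy
  refine ⟨b, hmem, ?_⟩
  rw [Nat.card_eq_fintype_card, Fintype.card_subtype,
    Finset.card_eq_sum_card_fiberwise (f := cls) (t := Finset.univ) fun x _ => Finset.mem_univ _]
  refine Finset.sum_congr rfl fun c _ => ?_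
  rw [Finset.filter_filter]
  by_cases hb : b c = true
  · rw [if_pos hb, ← cls_card c]
    exact congrArg Finset.card (Finset.filter_congr fun x _ => by
      rw [hmem]; exact ⟨fun ⟨⟨p, _⟩, q⟩ => ⟨p, q⟩, fun ⟨p, q⟩ => ⟨⟨p, q ▸ hb⟩, q⟩⟩)
  · rw [if_neg hb, Finset.card_eq_zero, Finset.filter_eq_empty_iff]
    rintro x - ⟨hx, rfl⟩
    exact hb ((hmem x).1 hx).2

theorem invariant_378 {O : Set V} (h : ∀ g ∈ N0, ∀ x ∈ O, g • x ∈ O) (hiso : ∀ x ∈ O, Iso x)
    (hc : Nat.card O = 378) : ∃ j : FF, j ≠ 0 ∧ ∀ x, x ∈ O ↔ InO j x := by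
  obtain ⟨b, hb, hcard⟩ := invariant_set h hiso
  have key : ∀ j : FF, j ≠ 0 → ∀ x, (Iso x ∧ ![true, false, decide (j = 1), decide (j = .w), decide (j = .w2)]
      (cls x) = true) ↔ InO j x := by
    intro j hj x
    refine ⟨fun ⟨hx, ht⟩ => ?_, fun hx => ⟨Iso_of_InO hj hx, ?_⟩⟩
    · rcases hx with hx | hx | hx
      · exact Or.inl hx
      · simp [cls, hx] at ht
      · right
        rcases FF_cases _ (prod_ne_zero_of_wt hx) with a | a | a <;> simp [cls, hx, a] at ht <;> rw [a, ht]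
    · rcases hx with hx | hx
      · simp [cls, hx]
      · have := wt_six_of_prod (hx ▸ hj)
        rcases FF_cases j hj with rfl | rfl | rfl <;> simp [cls, this, hx]
  rcases (two_sums b).1 (hcard.symm.trans hc) with rfl | rfl | rfl
  · exact ⟨1, by decide, fun x => (hb x).trans (key 1 (by decide) x)⟩
  · exact ⟨.w, by decide, fun x => (hb x).trans (key .w (by decide) x)⟩
  · exact ⟨.w2, by decide, fun x => (hb x).trans (key .w2 (by decide) x)⟩

theorem norm_one_card : (Finset.univ.filter fun x : V => Cfsg.hermForm 6 FF 2 x x = 1).card = 2016 := by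
  decide +kernel

/-- The vectors of norm one go to each other. -/
def Trans (j : FF) : Prop := ∀ x : V, H x x = 1 → ∃ g ∈ G j, g • x = e 0

theorem card_orbit_mul (K : Subgroup S) (v : V) :
    Nat.card K = Nat.card (MulAction.orbit K v) * Nat.card (MulAction.stabilizer K v) := by
  rw [Subgroup.card_eq_card_quotient_mul_card_subgroup (MulAction.stabilizer K v),
    Nat.card_congr (MulAction.orbitEquivQuotientStabilizer K v)]

theorem card_G_le {j : FF} (hj : j ≠ 0) :
    Nat.card (G j) ≤ 19595520 ∧ (Nat.card (G j) = 19595520 → Trans j) := by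
  have hs : Nat.card (MulAction.stabilizer (G j) (e 0)) ≤ 9720 := by
    rw [← card_Mon_stab]
    refine Nat.card_le_card_of_injective
      (fun g => (⟨g.1.1, mem_Mon_of_fix hj g.2 fun x hx => (g.1.2 x).2 hx, g.2⟩ :
        {g : S // g ∈ Mon ∧ g • e 0 = e 0})) fun a b hab => ?_
    exact Subtype.ext (Subtype.ext (congrArg (fun t => t.1) hab :))
  have hsub : MulAction.orbit (G j) (e 0) ⊆ {x : V | Cfsg.hermForm 6 FF 2 x x = 1} := by
    rintro x ⟨g, rfl⟩
    show H (g.1 • e 0) (g.1 • e 0) = 1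
    rw [H_smul, H_e, if_pos rfl]
  have hn : Nat.card {x : V | Cfsg.hermForm 6 FF 2 x x = 1} = 2016 := by
    rw [Nat.card_eq_fintype_card, Fintype.card_subtype]
    exact norm_one_card
  have ho : Nat.card (MulAction.orbit (G j) (e 0)) ≤ 2016 := hn ▸ Nat.card_mono (Set.toFinite _) hsub
  have hmul := card_orbit_mul (G j) (e 0)
  refine ⟨by rw [hmul]; exact Nat.mul_le_mul ho hs, fun hc x hx => ?_⟩
  have : Nat.card (MulAction.orbit (G j) (e 0)) = 2016 := by
    rcases ho.lt_or_eq with hlt | heq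
    · have h1 : Nat.card (G j) ≤ 2015 * 9720 := hmul ▸ Nat.mul_le_mul (Nat.le_of_lt_succ hlt) hs
      omega
    · exact heq
  have heq := Set.eq_of_subset_of_ncard_le hsub
    (by rw [← Nat.card_coe_set_eq, ← Nat.card_coe_set_eq, this, hn]) (Set.toFinite _)
  obtain ⟨g, hg⟩ : x ∈ MulAction.orbit (G j) (e 0) := heq ▸ hx
  exact ⟨g.1⁻¹, inv_mem g.2, by rw [← hg]; exact inv_smul_smul g.1 _⟩

theorem eq_of_InO_subset {j k : FF} (hj : j ≠ 0) (h : ∀ x, InO j x → InO k x) : j = k :=
  eq_of_Mon_maps hj (one_mem Mon) fun x hx => by rw [one_smul]; exact h x hx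

theorem orbit_iso {x : V} (hx : x ≠ 0) (h : H x x = 0) : Iso x := by
  rw [H_self] at h
  have h1 := wt_pos hx
  have h2 : wt x ≤ 6 := (Finset.card_le_univ _).trans_eq (Fintype.card_fin 6)
  show wt x = 2 ∨ wt x = 4 ∨ wt x = 6
  generalize wt x = n at h h1 h2 ⊢
  interval_cases n <;> first | omega | (exfalso; revert h; decide +kernel)

/-- What the orbit of the base vector says about a good subgroup. -/
theorem Good.exists_j {K : Subgroup S} (hK : Good K) :
    ∃ j : FF, j ≠ 0 ∧ (∀ x, x ∈ MulAction.orbit K e01 ↔ InO j x) ∧ K = ⁅G j, G j⁆ ∧ Trans j := by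
  set O := MulAction.orbit K e01 with hO
  have hinv : ∀ g ∈ N0, ∀ x ∈ O, g • x ∈ O := fun g hg x hx =>
    MulAction.mem_orbit_of_mem_orbit (⟨g, hK.le hg⟩ : K) hx
  have hH : H e01 e01 = 0 := by rw [H_self, wt_e01]; decide
  have hiso : ∀ x ∈ O, Iso x := by
    rintro x ⟨g, rfl⟩
    refine orbit_iso (fun h0 => ?_) (by show H (g.1 • e01) (g.1 • e01) = 0; rw [H_smul, hH])
    have h1 : e01 = g⁻¹ • (g • e01) := (inv_smul_smul _ _).symm
    rw [show g • e01 = (0 : V) from h0] at h1
    have h2 : e01 0 = (0 : V) 0 := by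
      rw [h1]; show (g⁻¹.1 • (0 : V)) 0 = 0; rw [smul_def, Matrix.mulVec_zero]; rfl
    simp [e01] at h2
  obtain ⟨b, hb, hcard⟩ := invariant_set hinv hiso
  have hb0 : b 0 = true := by
    simpa [cls, wt_e01] using ((hb e01).1 (MulAction.mem_orbit_self _)).2
  have hdvd : Nat.card O ∣ 15120 := by
    have h1 := card_orbit_mul K e01
    have hN : Nat.card (MulAction.orbit N0 e01) = 135 := by
      have : MulAction.orbit N0 e01 = {x : V | Iso x ∧ cls x = 0} := by
        ext x
        constructor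
        · rintro ⟨⟨g, σ, d, hg, hs⟩, rfl⟩
          have : wt (g • e01) = 2 := by rw [hg, wt_monV σ hg.ne_zero, wt_e01]
          exact ⟨Or.inl this, by show cls (g • e01) = 0; simp [cls, this]⟩
        · rintro ⟨hx, hc⟩
          obtain ⟨g, hg, he⟩ := exists_N0_of_cls (x := e01) (Or.inl wt_e01) hx (by rw [hc]; simp [cls, wt_e01])
          exact ⟨⟨g, hg⟩, he⟩
      rw [this, Nat.card_eq_fintype_card, Fintype.card_subtype]
      exact cls_card 0
    have h2 := card_orbit_mul N0 e01
    rw [hN, card_N0] at h2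
    have h3 : Nat.card (MulAction.stabilizer N0 e01) ∣ Nat.card (MulAction.stabilizer K e01) :=
      Subgroup.card_dvd_of_injective
        (MonoidHom.mk' (fun g => (⟨⟨g.1.1, hK.le g.1.2⟩, g.2⟩ : MulAction.stabilizer K e01)) fun _ _ => rfl)
        fun a b hab => Subtype.ext (Subtype.ext (congrArg (fun t => t.1.1) hab))
    obtain ⟨m, hm⟩ := h3
    rw [hK.card, hm] at h1
    have h648 : Nat.card (MulAction.stabilizer N0 e01) = 648 := by omega
    rw [h648] at h1
    refine ⟨m, ?_⟩
    rw [show Nat.card O * (648 * m) = 648 * (Nat.card O * m) by ring] at h1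
    omega
  rcases (two_sums b).2 hb0 (by rw [← hcard]; exact Nat.mod_eq_zero_of_dvd hdvd |>.trans rfl) with h | rfl
  swap
  · exfalso
    have hW : ∀ x, wt x = 2 ↔ x ∈ O := fun x => by
      rw [hb]
      refine ⟨fun hx => ⟨Or.inl hx, by simp [cls, hx]⟩, fun ⟨hx, ht⟩ => ?_⟩
      rcases hx with hx | hx | hx
      · exact hx
      · simp [cls, hx] at ht
      · rcases FF_cases _ (prod_ne_zero_of_wt hx) with a | a | a <;> simp [cls, hx, a] at ht
    have : K ≤ Mon := fun g hg => mem_Mon_of_two fun x hx =>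
      (hW _).2 (MulAction.mem_orbit_of_mem_orbit (⟨g, hg⟩ : K) ((hW x).1 hx))
    have := Subgroup.card_le_of_le this
    rw [hK.card, card_Mon] at this
    omega
  obtain ⟨j, hj, hjO⟩ := invariant_378 hinv hiso (hcard.trans h)
  refine ⟨j, hj, hjO, ?_⟩
  have hKG : K ≤ G j := fun g hg x => by
    rw [← hjO, ← hjO]
    exact ⟨fun hx => by
      have := MulAction.mem_orbit_of_mem_orbit (⟨g, hg⟩⁻¹ : K) hx
      rwa [show g • x = (⟨g, hg⟩ : K) • x from rfl, inv_smul_smul] at this,
      fun hx => MulAction.mem_orbit_of_mem_orbit (⟨g, hg⟩ : K) hx⟩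
  obtain ⟨hle, htr⟩ := card_G_le hj
  have hidx := Subgroup.card_mul_index (K.subgroupOf (G j))
  rw [Nat.card_congr (Subgroup.subgroupOfEquivOfLe hKG).toEquiv, hK.card] at hidx
  have h0 : (K.subgroupOf (G j)).index ≠ 0 := Subgroup.index_ne_zero_of_finite
  have h1 : (K.subgroupOf (G j)).index ≠ 1 := by
    intro h1
    rw [Subgroup.index_eq_one, Subgroup.subgroupOf_eq_top] at h1
    let t : S := mkMon (Equiv.swap 0 1) ⟨1, by simp⟩
    have htM : t ∈ Mon := ⟨_, _, isMon_mkMon _ _⟩
    obtain ⟨σ, d, hd, hs⟩ := hK.mon ⟨h1 (Mon_le_G j htM), htM⟩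
    rw [(hd.unique (isMon_mkMon _ _)).1, Equiv.Perm.sign_swap (by decide)] at hs
    exact absurd hs (by decide)
  have h2 : (K.subgroupOf (G j)).index = 2 := by omega
  refine ⟨le_antisymm ?_ ?_, htr (by omega)⟩
  · conv_lhs => rw [← hK.perf]
    exact Subgroup.commutator_mono hKG hKG
  · rw [Subgroup.commutator_le]
    intro a ha c hc
    have key := fun x y : G j => Subgroup.mul_mem_iff_of_index_two h2 (a := x) (b := y)
    have : ⁅(⟨a, ha⟩ : G j), ⟨c, hc⟩⁆ ∈ K.subgroupOf (G j) := by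
      simp only [commutatorElement_def, key, inv_mem_iff]
      tauto
    exact this

theorem Good.spec {K : Subgroup S} (hK : Good K) {j : FF} (hle : K ≤ G j) :
    (∀ x, x ∈ MulAction.orbit K e01 ↔ InO j x) ∧ K = ⁅G j, G j⁆ ∧ Trans j := by
  obtain ⟨i, hi, hO, hrest⟩ := hK.exists_j
  have : i = j := eq_of_InO_subset hi fun x hx => by
    obtain ⟨g, rfl⟩ := (hO x).2 hx
    exact (hle g.2 e01).2 (Or.inl wt_e01)
  subst this
  exact ⟨hO, hrest⟩

theorem Good.not_conj {K L : Subgroup S} (hK : Good K) (hL : Good L) {j k : FF} (hj : j ≠ 0) (hk : k ≠ 0)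
    (hKj : K ≤ G j) (hLk : L ≤ G k) {g : S} (hg : K.map (MulAut.conj g).toMonoidHom = L) : j = k := by
  obtain ⟨hKO, -⟩ := hK.spec hKj
  obtain ⟨hLO, -, hLT⟩ := hL.spec hLk
  have horb : ∀ x, g • x ∈ MulAction.orbit L (g • e01) ↔ x ∈ MulAction.orbit K e01 := by
    intro x
    constructor
    · rintro ⟨⟨l, hl⟩, h⟩
      rw [← hg] at hl
      obtain ⟨a, ha, rfl⟩ := hl
      refine ⟨⟨a, ha⟩, MulAction.injective g ?_⟩
      show g • (a • e01) = g • x
      rw [← h]
      show g • (a • e01) = (g * a * g⁻¹) • (g • e01)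
      rw [mul_smul, mul_smul, inv_smul_smul]
    · rintro ⟨⟨a, ha⟩, rfl⟩
      refine ⟨⟨g * a * g⁻¹, hg ▸ ⟨a, ha, rfl⟩⟩, ?_⟩
      show (g * a * g⁻¹) • (g • e01) = g • (a • e01)
      rw [mul_smul, mul_smul, inv_smul_smul]
  have hinv : ∀ h ∈ N0, ∀ x ∈ MulAction.orbit L (g • e01), h • x ∈ MulAction.orbit L (g • e01) :=
    fun h hh x hx => MulAction.mem_orbit_of_mem_orbit (⟨h, hL.le hh⟩ : L) hx
  have hiso : ∀ x ∈ MulAction.orbit L (g • e01), Iso x := fun x hx => by
    rw [← smul_inv_smul g x, horb, hKO] at hx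
    refine orbit_iso (fun h0 => ?_) ?_
    · subst h0
      rw [smul_def, Matrix.mulVec_zero, InO] at hx
      simp [wt, eq_comm, hj] at hx
    · have h0 : H (g⁻¹ • x) (g⁻¹ • x) = 0 := by
        rw [H_self]
        rcases Iso_of_InO hj hx with h | h | h <;> rw [h] <;> decide +kernel
      rwa [H_smul] at h0
  have hcard : Nat.card (MulAction.orbit L (g • e01)) = 378 := by
    have e1 : MulAction.orbit K e01 ≃ MulAction.orbit L (g • e01) :=
      (MulAction.toPerm g).subtypeEquiv fun x => (horb x).symm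
    rw [← Nat.card_congr e1, Nat.card_congr (Equiv.subtypeEquivRight hKO), Nat.card_eq_fintype_card,
      Fintype.card_subtype]
    rcases FF_cases j hj with rfl | rfl | rfl <;> decide +kernel
  obtain ⟨i, hi, hO⟩ := invariant_378 hinv hiso hcard
  have hik : i = k := by
    have h1 := (hO e01).2 (Or.inl wt_e01)
    rw [← MulAction.orbit_eq_iff] at h1
    refine eq_of_InO_subset hi fun x hx => (hLO x).1 ?_
    rw [h1]; exact (hO x).2 hx
  subst hik
  have hmap : ∀ x, InO j x → InO i (g • x) := fun x hx => (hO _).1 ((horb x).2 ((hKO x).2 hx))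
  obtain ⟨a, ha, hae⟩ := hLT (g • e 0) (by rw [H_smul, H_e, if_pos rfl])
  have hmap' : ∀ x, InO j x → InO i ((a * g) • x) := fun x hx => by
    rw [mul_smul]; exact (ha _).2 (hmap x hx)
  exact eq_of_Mon_maps hj (mem_Mon_of_fix hk (by rw [mul_smul, hae]) hmap') hmap'

end Cfsg.Agent.Components.UnitarySix
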