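import Cfsg.Agent.Lib.Components.UnitarySix.Diag
import Cfsg.Agent.Lib.Components.UnitarySix.Data

/-!
The generated tables checked: the four generators of each of the two groups permute the 112 frames and the
112 lines alike.
-/

set_option autoImplicit false
set_option maxRecDepth 100000
set_option maxHeartbeats 0

namespace Cfsg.Agent.Components.UnitarySix.Model

open Cfsg.Agent.InvChar.Coset Matrix
open Cfsg.Agent.MonomialMult (Nine)
open Cfsg.Agent.Classical.Unitary (mat suMk)

section
variable {F : Type} [Field F] {n : ℕ}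

/-- The list of a block. -/
def blk (T : List (List ℕ)) (i : Fin 112) : List ℕ := T.getD i.1 []

/-- The matrix maps the members of each block to multiples of members of the image block. -/
def Maps (dec : ℕ → Fin n → F) (T : List (List ℕ)) (A : Matrix (Fin n) (Fin n) F) (π : Fin 112 → Fin 112) :
    Prop :=
  ∀ i, ∀ v ∈ blk T i, ∃ w ∈ blk T (π i), ∃ c : F, A *ᵥ dec v = c • dec w

theorem Maps.one (dec : ℕ → Fin n → F) (T : List (List ℕ)) : Maps dec T 1 id :=
  fun _ v hv => ⟨v, hv, 1, by rw [one_mulVec, one_smul]⟩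

theorem Maps.mul {dec : ℕ → Fin n → F} {T : List (List ℕ)} {A B : Matrix (Fin n) (Fin n) F}
    {π ρ : Fin 112 → Fin 112} (hA : Maps dec T A π) (hB : Maps dec T B ρ) :
    Maps dec T (A * B) (π ∘ ρ) := by
  intro i v hv
  obtain ⟨w, hw, c, hc⟩ := hB i v hv
  obtain ⟨u, hu, d, hd⟩ := hA (ρ i) w hw
  exact ⟨u, hu, c * d, by rw [← mulVec_mulVec, hc, mulVec_smul, hd, smul_smul]⟩

variable [DecidableEq F]

/-- A certificate of `Maps`. -/
def certB (dec : ℕ → Fin n → F) (cof : ℕ → F) (T : List (List ℕ)) (A : Matrix (Fin n) (Fin n) F)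
    (π : Fin 112 → Fin 112) (C : List (List (ℕ × ℕ))) : Bool :=
  (List.finRange 112).all fun i =>
    (blk T i).length == (C.getD i.1 []).length && ((blk T i).zip (C.getD i.1 [])).all fun p =>
      (blk T (π i)).contains p.2.1 && decide (A *ᵥ dec p.1 = cof p.2.2 • dec p.2.1)

theorem certB_spec {dec : ℕ → Fin n → F} {cof : ℕ → F} {T : List (List ℕ)} {A : Matrix (Fin n) (Fin n) F}
    {π : Fin 112 → Fin 112} {C : List (List (ℕ × ℕ))} (h : certB dec cof T A π C = true) :
    Maps dec T A π := by
  intro i v hv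
  have hi := List.all_eq_true.1 h i (List.mem_finRange i)
  simp only [Bool.and_eq_true, beq_iff_eq, List.all_eq_true, List.contains_iff_mem, decide_eq_true_eq] at hi
  obtain ⟨k, hk, rfl⟩ := List.getElem_of_mem hv
  have hk' : k < (C.getD i.1 []).length := hi.1 ▸ hk
  have hk'' : k < ((blk T i).zip (C.getD i.1 [])).length := by
    rw [List.length_zip, ← hi.1, Nat.min_self]; exact hk
  have hm : ((blk T i)[k], (C.getD i.1 [])[k]) ∈ (blk T i).zip (C.getD i.1 []) := by
    rw [← List.getElem_zip (h := hk'')]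
    exact List.getElem_mem hk''
  obtain ⟨h1, h2⟩ := hi.2 _ hm
  exact ⟨_, h1, _, h2⟩

/-- The first non-zero coordinate is one. -/
def First1 (x : Fin n → F) : Prop := ∃ i, x i = 1 ∧ ∀ k, k < i → x k = 0

instance (x : Fin n → F) : Decidable (First1 x) := inferInstanceAs (Decidable (∃ _, _))

/-- The blocks consist of normalised codes, and none contains another. -/
def okB (dec : ℕ → Fin n → F) (enc : (Fin n → F) → ℕ) (T : List (List ℕ)) : Bool :=
  ((List.finRange 112).all fun i => (blk T i).all fun v => enc (dec v) == v && decide (First1 (dec v))) &&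
  (List.finRange 112).all fun i => (List.finRange 112).all fun j =>
    decide (i = j) || !((blk T i).all fun v => (blk T j).contains v)

variable {dec : ℕ → Fin n → F} {enc : (Fin n → F) → ℕ} {T : List (List ℕ)}

theorem member (h : okB dec enc T = true) {i : Fin 112} {v : ℕ} (hv : v ∈ blk T i) :
    enc (dec v) = v ∧ First1 (dec v) := by
  simp only [okB, Bool.and_eq_true, List.all_eq_true, beq_iff_eq, decide_eq_true_eq] at h
  exact h.1 i (List.mem_finRange i) v hv

theorem canon_eq (h : okB dec enc T = true) {i j : Fin 112} {v w : ℕ} (hv : v ∈ blk T i) (hw : w ∈ blk T j)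
    {c d : F} (hc : c ≠ 0) (heq : c • dec v = d • dec w) : v = w ∧ c = d := by
  obtain ⟨ev, a, ha, ha'⟩ := member h hv
  obtain ⟨ew, b, hb, hb'⟩ := member h hw
  have h1 := congrFun heq a
  have h2 := congrFun heq b
  simp only [Pi.smul_apply, smul_eq_mul, ha, hb, mul_one] at h1 h2
  have hd : d ≠ 0 := fun h0 => hc (by rw [h1, h0, zero_mul])
  rcases lt_trichotomy a b with hab | rfl | hab
  · rw [hb' a hab, mul_zero] at h1; exact absurd h1 hc
  · have hcd : c = d := by rw [h1, hb, mul_one]
    refine ⟨?_, hcd⟩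
    have he : dec v = dec w := smul_right_injective (Fin n → F) hd (show d • dec v = d • dec w by rw [← heq, hcd])
    rw [← ev, ← ew, he]
  · rw [ha' b hab, mul_zero] at h2; exact absurd h2.symm hd

theorem scalar_fix (h : okB dec enc T = true) {A : Matrix (Fin n) (Fin n) F} {l : F} (hl : l ≠ 0)
    (hA : ∀ x, A *ᵥ x = l • x) {π : Fin 112 → Fin 112} (hM : Maps dec T A π) : π = id := by
  funext i
  by_contra hne
  have h' := h
  simp only [okB, Bool.and_eq_true, List.all_eq_true, Bool.or_eq_true, decide_eq_true_eq, Bool.not_eq_true',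
    List.all_eq_false, List.contains_iff_mem] at h'
  rcases h'.2 i (List.mem_finRange i) (π i) (List.mem_finRange _) with h1 | ⟨v, hv, hnot⟩
  · exact hne h1.symm
  · obtain ⟨w, hw, c, hc⟩ := hM i v hv
    rw [hA] at hc
    exact hnot ((canon_eq h hv hw hl hc).1 ▸ hw)

end

/-- An element of four elements from its code. -/
def ff : ℕ → FF
  | 1 => 1
  | 2 => .w
  | 3 => .w2
  | _ => 0

/-- The code of an element. -/
def ffN : FF → ℕ
  | .zero => 0
  | .one => 1
  | .w => 2
  | .w2 => 3

/-- A vector from its code. -/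
def dec6 (k : ℕ) : V := fun i => ff (k / 4 ^ i.1 % 4)

/-- The code of a vector. -/
def enc6 (x : V) : ℕ :=
  ffN (x 0) + 4 * ffN (x 1) + 16 * ffN (x 2) + 64 * ffN (x 3) + 256 * ffN (x 4) + 1024 * ffN (x 5)

/-- A vector over nine elements from its code. -/
def dec9 (k : ℕ) : Fin 4 → Nine := fun i => Nine.ofN (k / 9 ^ i.1 % 9)

/-- The code of a vector over nine elements. -/
def enc9 (x : Fin 4 → Nine) : ℕ := (x 0).toN + 9 * (x 1).toN + 81 * (x 2).toN + 729 * (x 3).toN

/-- A table as a function. -/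
def tab (l : List ℕ) (i : Fin 112) : Fin 112 := ⟨l.getD i.1 0 % 112, Nat.mod_lt _ (by norm_num)⟩

theorem ok6 : okB dec6 enc6 frames = true := by decide +kernel

theorem ok9 : okB dec9 enc9 lines = true := by decide +kernel

theorem pres_of {F : Type} [Field F] [Fintype F] {q n : ℕ} (hF : Fintype.card F = q ^ 2)
    (M : Matrix (Fin n) (Fin n) F) (h : Mᵀ * M.map (fun x => x ^ q) = 1) (u v : Fin n → F) :
    Cfsg.hermForm n F q (M *ᵥ u) (M *ᵥ v) = Cfsg.hermForm n F q u v := by
  refine (Cfsg.Agent.Classical.Unitary.preserves_iff hF M).2 ?_ u v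
  rw [← h]
  congr 1

/-- The permutation of the first generator of the permutations. -/
def σ1 : Equiv.Perm (Fin 6) := ⟨![1, 2, 0, 3, 4, 5], ![2, 0, 1, 3, 4, 5], by decide, by decide⟩

/-- The permutation of the second generator of the permutations. -/
def σ2 : Equiv.Perm (Fin 6) := ⟨![1, 0, 3, 4, 5, 2], ![1, 0, 5, 2, 3, 4], by decide, by decide⟩

/-- The matrix moving the standard frame. -/
def rMat : Matrix (Fin 6) (Fin 6) FF :=
  !![0, 1, 0, 0, 1, 1; 0, 1, 0, 0, .w, .w2; 0, 1, 0, 0, .w2, .w; 1, 0, 1, 1, 0, 0; 1, 0, .w, .w2, 0, 0;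
    1, 0, .w2, .w, 0, 0]

/-- The element moving the standard frame. -/
def rS : S := suMk rMat (by decide +kernel) (pres_of hF rMat (by decide +kernel))

/-- A matrix from its codes. -/
def mat9 (l : Fin 4 → Fin 4 → ℕ) : Matrix (Fin 4) (Fin 4) Nine := Matrix.of fun i k => Nine.ofN (l i k)

/-- The codes of the matrices. -/
def codes9 : Fin 4 → Fin 4 → Fin 4 → ℕ :=
  ![![![2, 0, 3, 2], ![0, 2, 4, 6], ![5, 4, 2, 0], ![1, 7, 0, 2]],
    ![![4, 0, 4, 6], ![0, 4, 3, 2], ![8, 7, 4, 0], ![5, 2, 0, 4]],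
    ![![5, 2, 7, 7], ![1, 6, 7, 5], ![6, 5, 3, 2], ![7, 3, 1, 7]],
    ![![7, 5, 3, 1], ![4, 8, 0, 7], ![8, 0, 2, 5], ![0, 8, 1, 7]]]

theorem det9 : ∀ k, (mat9 (codes9 k)).det = 1 := by decide +kernel

theorem pres9 : ∀ k, (mat9 (codes9 k))ᵀ * (mat9 (codes9 k)).map (fun x => x ^ 3) = 1 := by decide +kernel

/-- The generators over nine elements. -/
def A (k : Fin 4) : Cfsg.SU 4 Nine 3 :=
  suMk (mat9 (codes9 k)) (det9 k) (pres_of hF9 _ (pres9 k))

/-- The generators over four elements. -/
def g : Fin 4 → S := ![diagS (dk 1), permS σ1, permS σ2, rS]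

/-- The permutations of the generators. -/
def gperm : Fin 4 → Fin 112 → Fin 112 := ![tab perm0, tab perm1, tab perm2, tab perm3]

theorem c6_0 : certB dec6 ff frames (monMat 1 (dk 1).1) (tab perm0) cert6_0 = true := by decide +kernel

theorem c6_1 : certB dec6 ff frames (monMat σ1 1) (tab perm1) cert6_1 = true := by decide +kernel

theorem c6_2 : certB dec6 ff frames (monMat σ2 1) (tab perm2) cert6_2 = true := by decide +kernel

theorem c6_3 : certB dec6 ff frames rMat (tab perm3) cert6_3 = true := by decide +kernel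

theorem c9_0 : certB dec9 Nine.ofN lines (mat9 (codes9 0)) (tab perm0) cert9_0 = true := by decide +kernel

theorem c9_1 : certB dec9 Nine.ofN lines (mat9 (codes9 1)) (tab perm1) cert9_1 = true := by decide +kernel

theorem c9_2 : certB dec9 Nine.ofN lines (mat9 (codes9 2)) (tab perm2) cert9_2 = true := by decide +kernel

theorem c9_3 : certB dec9 Nine.ofN lines (mat9 (codes9 3)) (tab perm3) cert9_3 = true := by decide +kernel

theorem gens_maps (k : Fin 4) :
    Maps dec6 frames (mat (g k)) (gperm k) ∧ Maps dec9 lines (mat (A k)) (gperm k) := by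
  fin_cases k
  · exact ⟨certB_spec c6_0, certB_spec c9_0⟩
  · exact ⟨certB_spec c6_1, certB_spec c9_1⟩
  · exact ⟨certB_spec c6_2, certB_spec c9_2⟩
  · exact ⟨certB_spec c6_3, certB_spec c9_3⟩

end Cfsg.Agent.Components.UnitarySix.Model
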